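import Mathlib

/-!
# Fields generated by a root of unity of prime order, and norms of involutory automorphisms
-/

set_option autoImplicit false
set_option linter.all false

namespace CfsgLib.SolvStruct.UniversalSchmidt

variable {K : Type*} [Field K] [Fintype K] {p q : ℕ} [hp : Fact p.Prime] [hq : Fact q.Prime]

omit [Fintype K] in
/-- A stable subset of a field generated by `ζ` is stable under everything. -/
theorem mul_mem_of_gen {ζ : K} (hgen : Subring.closure ({ζ} : Set K) = ⊤) {A : AddSubgroup K}
    (hA : ∀ a ∈ A, ζ * a ∈ A) (c : K) {a : K} (ha : a ∈ A) : c * a ∈ A := by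
  let S : Subring K :=
    { carrier := {c | ∀ a ∈ A, c * a ∈ A}
      one_mem' := fun a ha => by rwa [one_mul]
      mul_mem' := fun {c d} hc hd a ha => by rw [mul_assoc]; exact hc _ (hd a ha)
      zero_mem' := fun a _ => by rw [zero_mul]; exact zero_mem A
      add_mem' := fun {c d} hc hd a ha => by rw [add_mul]; exact add_mem (hc a ha) (hd a ha)
      neg_mem' := fun {c} hc a ha => by rw [neg_mul]; exact neg_mem (hc a ha) }
  have h : Subring.closure ({ζ} : Set K) ≤ S :=
    Subring.closure_le.2 fun x hx => by rw [Set.mem_singleton_iff.1 hx]; exact hA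
  exact h (hgen ▸ Subring.mem_top c) a ha

theorem orderOf_root {ζ : K} (hpow : ζ ^ q = 1) (hne : ζ ≠ 1) : orderOf ζ = q :=
  orderOf_eq_prime hpow hne

/-- The degree of a field containing a `q`-th root of unity is a multiple of the order of `p`. -/
theorem orderOf_dvd_degree {ζ : K} (hpow : ζ ^ q = 1) (hne : ζ ≠ 1) {n : ℕ}
    (hn : Fintype.card K = p ^ n) : orderOf (p : ZMod q) ∣ n := by
  refine orderOf_dvd_of_pow_eq_one ?_
  have h0 : ζ ≠ 0 := fun e => by rw [e, zero_pow hq.out.ne_zero] at hpow; exact zero_ne_one hpow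
  have h1 : q ∣ Fintype.card K - 1 := by
    rw [← orderOf_root hpow hne]
    exact orderOf_dvd_of_pow_eq_one (FiniteField.pow_card_sub_one_eq_one ζ h0)
  rw [hn] at h1
  rw [← Nat.cast_pow, ← Nat.cast_one, ZMod.natCast_eq_natCast_iff]
  exact ((Nat.modEq_iff_dvd' (Nat.one_le_pow _ _ hp.out.pos)).2 h1).symm

/-- A finite field generated by a `q`-th root of unity has `p ^ a` elements. -/
theorem card_of_gen (hchar : (p : K) = 0) {ζ : K} (hpow : ζ ^ q = 1) (hne : ζ ≠ 1)
    (hgen : Subring.closure ({ζ} : Set K) = ⊤) (hpq : p ≠ q) :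
    Fintype.card K = p ^ orderOf (p : ZMod q) := by
  classical
  haveI : CharP K p := (CharP.charP_iff_prime_eq_zero hp.out).2 hchar
  obtain ⟨n, -, hn⟩ := FiniteField.card K p
  have hdvd := orderOf_dvd_degree hpow hne hn
  set a := orderOf (p : ZMod q) with ha
  have hpa : (p : ZMod q) ^ a = 1 := pow_orderOf_eq_one _
  have hfix : iterateFrobenius K p a ζ = ζ := by
    rw [iterateFrobenius_def]
    have h1 : ((p ^ a : ℕ) : ZMod q) = ((1 : ℕ) : ZMod q) := by push_cast; exact hpa
    rw [ZMod.natCast_eq_natCast_iff] at h1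
    rw [pow_eq_pow_mod (p ^ a) hpow, show p ^ a % q = 1 % q from h1,
      Nat.mod_eq_of_lt hq.out.one_lt, pow_one]
  have hle : Fintype.card K ≤ p ^ a := by
    have htop : ∀ x : K, x ^ p ^ a = x := fun x => by
      have h : Subring.closure ({ζ} : Set K) ≤
          RingHom.eqLocus (iterateFrobenius K p a) (RingHom.id K) :=
        Subring.closure_le.2 fun y hy => by rw [Set.mem_singleton_iff.1 hy]; exact hfix
      have := h (hgen ▸ Subring.mem_top x)
      rw [← iterateFrobenius_def]
      exact this
    have hapos : a ≠ 0 := by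
      rw [ha, ← Nat.pos_iff_ne_zero, orderOf_pos_iff, isOfFinOrder_iff_pow_eq_one]
      refine ⟨q - 1, by have := hq.out.two_le; omega, ZMod.pow_card_sub_one_eq_one ?_⟩
      rw [Ne, ZMod.natCast_eq_zero_iff, Nat.prime_dvd_prime_iff_eq hq.out hp.out]
      exact Ne.symm hpq
    have h1 : 1 < p ^ a := Nat.one_lt_pow hapos hp.out.one_lt
    let F : Polynomial K := Polynomial.X ^ p ^ a - Polynomial.X
    have hF : F ≠ 0 := FiniteField.X_pow_card_sub_X_ne_zero K h1
    have h2 : (Finset.univ : Finset K) ⊆ F.roots.toFinset := fun t _ => by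
      rw [Multiset.mem_toFinset, Polynomial.mem_roots hF]
      simp [F, htop t]
    have h3 := (Finset.card_le_card h2).trans
      ((Multiset.toFinset_card_le _).trans (Polynomial.card_roots' F))
    rwa [Finset.card_univ, FiniteField.X_pow_card_sub_X_natDegree_eq K h1] at h3
  obtain ⟨k, hk⟩ := hdvd
  rw [hn] at hle ⊢
  refine le_antisymm hle (Nat.pow_le_pow_right hp.out.pos ?_)
  exact Nat.le_of_dvd n.pos ⟨k, hk⟩

/-- A field with `p ^ a` elements is generated by any nontrivial `q`-th root of unity. -/
theorem gen_of_card (hchar : (p : K) = 0) {ζ : K} (hpow : ζ ^ q = 1) (hne : ζ ≠ 1)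
    (hcard : Fintype.card K = p ^ orderOf (p : ZMod q)) :
    Subring.closure ({ζ} : Set K) = ⊤ := by
  classical
  haveI : CharP K p := (CharP.charP_iff_prime_eq_zero hp.out).2 hchar
  set S := Subring.closure ({ζ} : Set K) with hS
  letI : Field S := Fintype.fieldOfDomain S
  haveI : CharP S p := (CharP.charP_iff_prime_eq_zero hp.out).2 (Subtype.ext (by simpa using hchar))
  obtain ⟨n, -, hn⟩ := FiniteField.card S p
  have hdvd := orderOf_dvd_degree (K := S) (ζ := ⟨ζ, Subring.subset_closure rfl⟩) (q := q)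
    (Subtype.ext (by simpa using hpow)) (fun e => hne (congrArg Subtype.val e)) hn
  refine eq_top_iff.2 fun x _ => ?_
  have hle : Fintype.card K ≤ Fintype.card S := by
    rw [hcard, hn]
    exact Nat.pow_le_pow_right hp.out.pos (Nat.le_of_dvd n.pos hdvd)
  have hb := (Fintype.bijective_iff_injective_and_card (fun s : S => (s : K))).2
    ⟨Subtype.val_injective, le_antisymm (Fintype.card_subtype_le _) hle⟩
  obtain ⟨s, rfl⟩ := hb.2 x
  exact s.2

/-- The fixed field of `σ`, as an additive group. -/
def fixedAdd (σ : K →+* K) : AddSubgroup K := (RingHom.eqLocus σ (RingHom.id K)).toAddSubgroup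

omit [Fintype K] in
theorem mem_fixedAdd {σ : K →+* K} {x : K} : x ∈ fixedAdd σ ↔ σ x = x := Iff.rfl

theorem card_le_fixed_sq (σ : K →+* K) (hσ : ∀ x, σ (σ x) = x) :
    Nat.card K ≤ Nat.card (fixedAdd σ) * Nat.card (fixedAdd σ) := by
  classical
  let δ : K →+ K := σ.toAddMonoidHom - AddMonoidHom.id K
  have hker : δ.ker = fixedAdd σ := by
    ext x
    rw [AddMonoidHom.mem_ker, mem_fixedAdd]
    exact sub_eq_zero
  have hcard := AddSubgroup.card_eq_card_quotient_mul_card_addSubgroup δ.ker
  rw [Nat.card_congr (QuotientAddGroup.quotientKerEquivRange δ).toEquiv, hker] at hcard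
  rw [hcard]
  refine Nat.mul_le_mul_right _ ?_
  have hanti : ∀ y ∈ δ.range, σ y = -y := by
    rintro _ ⟨x, rfl⟩
    show σ (σ x - x) = -(σ x - x)
    rw [map_sub, hσ, neg_sub]
  by_cases h0 : ∀ y ∈ δ.range, y = 0
  · haveI : Subsingleton δ.range := ⟨fun a b => Subtype.ext ((h0 a a.2).trans (h0 b b.2).symm)⟩
    rw [Nat.card_of_subsingleton (0 : δ.range)]
    exact Nat.card_pos
  push Not at h0
  obtain ⟨d, hd, hd0⟩ := h0
  refine Nat.card_le_card_of_injective
    (fun y : δ.range => (⟨(y : K) / d, ?_⟩ : fixedAdd σ)) fun y y' e => ?_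
  · rw [mem_fixedAdd, map_div₀, hanti y y.2, hanti d hd, neg_div_neg_eq]
  · exact Subtype.ext ((div_left_inj' hd0).1 (congrArg Subtype.val e))

/-- An additive map killing all norms has small image. -/
theorem card_range_mul_le {A : Type*} [AddCommGroup A] (σ : K →+* K) (hσ : ∀ x, σ (σ x) = x)
    (L : K →+ A) (hL : ∀ x, L (σ x * x) = 0) :
    Nat.card L.range * Nat.card (fixedAdd σ) ≤ Nat.card K := by
  classical
  have hle : fixedAdd σ ≤ L.ker := by
    -- the squares of the fixed field generate it
    set F := fixedAdd σ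
    set S : AddSubgroup F := L.ker.addSubgroupOf F with hS
    suffices S = ⊤ by
      intro x hx
      exact (this.symm ▸ AddSubgroup.mem_top (⟨x, hx⟩ : F) : (⟨x, hx⟩ : F) ∈ S)
    haveI := Fintype.ofFinite F
    haveI := Fintype.ofFinite S
    by_contra hne
    have h2 : 2 * Nat.card S ≤ Nat.card F := by
      rw [AddSubgroup.card_eq_card_quotient_mul_card_addSubgroup S]
      refine Nat.mul_le_mul_right _ ?_
      exact AddSubgroup.one_lt_index_of_ne_top hne
    let sq : F → F := fun x => ⟨(x : K) * x, by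
      rw [mem_fixedAdd, map_mul, mem_fixedAdd.1 x.2]⟩
    have hsq : ∀ x : F, sq x ∈ S := fun x => by
      show (x : K) * x ∈ L.ker
      have := hL (x : K)
      rwa [mem_fixedAdd.1 x.2] at this
    set D : Finset F := Finset.univ.erase 0
    have h3 : D.card ≤ 2 * (D.image sq).card := by
      refine Finset.card_le_mul_card_image (f := sq) D 2 fun b _ => ?_
      by_cases hb : (D.filter fun x => sq x = b) = ∅
      · rw [hb]; simp
      obtain ⟨x₀, hx₀⟩ := Finset.nonempty_iff_ne_empty.2 hb
      rw [Finset.mem_filter] at hx₀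
      refine le_trans (Finset.card_le_card (t := {x₀, -x₀}) fun x hx => ?_) Finset.card_le_two
      rw [Finset.mem_filter] at hx
      have e : (x : K) * x = (x₀ : K) * x₀ := congrArg Subtype.val (hx.2.trans hx₀.2.symm)
      rw [Finset.mem_insert, Finset.mem_singleton]
      exact (mul_self_eq_mul_self_iff.1 e).imp (fun h => Subtype.ext h) (fun h => Subtype.ext h)
    have hz : (0 : F) ∉ D.image sq := by
      intro h
      obtain ⟨x, hx, hx0⟩ := Finset.mem_image.1 h
      refine Finset.ne_of_mem_erase hx (Subtype.ext ?_)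
      exact mul_self_eq_zero.1 (congrArg Subtype.val hx0)
    have h4 : (insert (0 : F) (D.image sq)).card ≤ Nat.card S := by
      rw [Nat.card_eq_fintype_card, Fintype.card_subtype]
      refine Finset.card_le_card fun x hx => Finset.mem_filter.2 ⟨Finset.mem_univ _, ?_⟩
      rcases Finset.mem_insert.1 hx with rfl | hx
      · exact zero_mem S
      · obtain ⟨y, -, rfl⟩ := Finset.mem_image.1 hx
        exact hsq y
    rw [Finset.card_insert_of_notMem hz] at h4
    have h5 : D.card = Nat.card F - 1 := by
      rw [Finset.card_erase_of_mem (Finset.mem_univ _), Finset.card_univ, Nat.card_eq_fintype_card]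
    omega
  have hcard := AddSubgroup.card_eq_card_quotient_mul_card_addSubgroup L.ker
  rw [Nat.card_congr (QuotientAddGroup.quotientKerEquivRange L).toEquiv] at hcard
  rw [hcard]
  exact Nat.mul_le_mul_left _ (AddSubgroup.card_le_of_le hle)

theorem exists_card_fixed (hchar : (p : K) = 0) (σ : K →+* K) :
    ∃ d k : ℕ, 0 < d ∧ Nat.card (fixedAdd σ) = p ^ d ∧ Nat.card K = (p ^ d) ^ k := by
  classical
  haveI : CharP K p := (CharP.charP_iff_prime_eq_zero hp.out).2 hchar
  let F : Subfield K := RingHom.eqLocusField σ (RingHom.id K)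
  haveI := Fintype.ofFinite F
  haveI : CharP F p := (CharP.charP_iff_prime_eq_zero hp.out).2 (Subtype.ext (by simpa using hchar))
  obtain ⟨d, -, hd⟩ := FiniteField.card F p
  refine ⟨d, Module.finrank F K, d.pos, ?_, ?_⟩
  · rw [← hd, ← Nat.card_eq_fintype_card]
    rfl
  · rw [← hd, ← Nat.card_eq_fintype_card]
    exact Module.natCard_eq_pow_finrank (K := F) (V := K)

/-- The combination of the two bounds. -/
theorem card_range_le_half {A : Type*} [AddCommGroup A] (hchar : (p : K) = 0) (σ : K →+* K)
    (hσ : ∀ x, σ (σ x) = x) (L : K →+ A) (hL : ∀ x, L (σ x * x) = 0) {a : ℕ}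
    (hK : Nat.card K = p ^ a) (ha : 0 < a) :
    Nat.card L.range ≤ if a % 2 = 1 then 1 else p ^ (a / 2) := by
  obtain ⟨d, k, hd, hF, hKd⟩ := exists_card_fixed hchar σ
  have h1 := card_range_mul_le σ hσ L hL
  have h2 := card_le_fixed_sq σ hσ
  rw [hF, hK] at h2 h1
  rw [hK, ← pow_mul] at hKd
  have hadk : a = d * k := Nat.pow_right_injective hp.out.two_le hKd
  have hle2 : a ≤ 2 * d := by
    rw [← pow_add] at h2
    have := (Nat.pow_le_pow_iff_right hp.out.one_lt).1 h2
    omega
  have hk2 : k ≤ 2 := by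
    by_contra h
    have h3 : d * 3 ≤ d * k := Nat.mul_le_mul_left d (by omega)
    omega
  have hrange : Nat.card L.range ≤ p ^ (a - d) := by
    refine Nat.le_of_mul_le_mul_right (h1.trans (le_of_eq ?_)) (pow_pos hp.out.pos d)
    rw [← pow_add]
    congr 1
    rcases Nat.eq_zero_or_pos k with rfl | hk
    · omega
    · have : d ≤ d * k := Nat.le_mul_of_pos_right d hk
      omega
  split_ifs with hodd
  · have : a = d := by
      interval_cases k
      · omega
      · omega
      · omega
    rwa [this, Nat.sub_self, pow_zero] at hrange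
  · exact hrange.trans (Nat.pow_le_pow_right hp.out.pos (by omega))

end CfsgLib.SolvStruct.UniversalSchmidt
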