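import Cfsg.Agent.Lib.SolvStruct.UniversalSchmidt.Field
import Cfsg.Agent.Lib.SolvStruct.UniversalSchmidt.Algebra

/-!
# The order of the `p`-group of a datum

The commutator form is invariant, so it is a function of `σ x * y` for an involutory automorphism
`σ` of the field; it kills all norms, which bounds its image.
-/

set_option autoImplicit false
set_option linter.all false

namespace CfsgLib.SolvStruct.UniversalSchmidt

open Subgroup
open scoped commutatorElement

universe u

variable {G : Type u} [Group G] [Finite G] {p q r : ℕ} [hp : Fact p.Prime] [hq : Fact q.Prime]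

theorem orderOf_pos_zmod (hpq : p ≠ q) : 0 < orderOf (p : ZMod q) := by
  rw [orderOf_pos_iff, isOfFinOrder_iff_pow_eq_one]
  refine ⟨q - 1, by have := hq.out.two_le; omega, ZMod.pow_card_sub_one_eq_one ?_⟩
  rw [Ne, ZMod.natCast_eq_zero_iff, Nat.prime_dvd_prime_iff_eq hq.out hp.out]
  exact Ne.symm hpq

variable {P : Subgroup G} {g : G} (D : Datum p q r P g)
include D

theorem Datum.card_le :
    Nat.card P ≤ p ^ (if orderOf (p : ZMod q) % 2 = 1 then orderOf (p : ZMod q)
      else 3 * orderOf (p : ZMod q) / 2) := by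
  classical
  obtain ⟨K, _, _, ζ, π, C⟩ := D.exists_coord
  set a := orderOf (p : ZMod q) with ha
  have hK : Nat.card K = p ^ a := by
    rw [Nat.card_eq_fintype_card]
    exact card_of_gen C.char C.pow C.ne_one C.gen D.prime_ne
  set F := Fix P g with hF
  have hcz : ∀ f ∈ F, ∀ y : G, y * f = f * y := fun f hf y =>
    mem_center_iff.1 (D.fix_central hf) y
  letI : CommGroup F :=
    { (inferInstance : Group F) with mul_comm := fun a b => Subtype.ext (hcz b b.2 a) }
  -- the commutator form
  let s := Function.surjInv C.surj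
  have hs : ∀ k, π (s k) = k := Function.surjInv_eq C.surj
  let B : K → K → Additive F := fun k l => Additive.ofMul
    (⟨⁅((s k : P) : G), ((s l : P) : G)⁆,
      D.commutator_le_fix (commutator_mem_commutator (s k).2 (s l).2)⟩ : F)
  have hval : ∀ x y : P, B (π x) (π y) = Additive.ofMul
      (⟨⁅(x : G), (y : G)⁆, D.commutator_le_fix (commutator_mem_commutator x.2 y.2)⟩ : F) := by
    have hdiff : ∀ x : P, ∃ f ∈ F, ((s (π x) : P) : G) = x * f := by
      intro x
      refine ⟨((x⁻¹ * s (π x) : P) : G), (C.zero_iff _).1 ?_, by simp⟩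
      have h1 : π (1 : P) = 0 := (C.zero_iff 1).2 (by simpa using one_mem _)
      have h2 : π (x⁻¹) + π x = 0 := by rw [← C.add, inv_mul_cancel, h1]
      rw [C.add, hs, h2]
    intro x y
    obtain ⟨f, hf, hx⟩ := hdiff x
    obtain ⟨f', hf', hy⟩ := hdiff y
    refine congrArg Additive.ofMul (Subtype.ext ?_)
    show ⁅((s (π x) : P) : G), ((s (π y) : P) : G)⁆ = ⁅(x : G), (y : G)⁆
    rw [hx, hy]
    simp only [commutatorElement_def, mul_inv_rev]
    have c1 := hcz f hf
    have c2 := hcz f' hf'
    calc (x : G) * f * ((y : G) * f') * (f⁻¹ * (x : G)⁻¹) * (f'⁻¹ * (y : G)⁻¹)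
        = (x : G) * (f * ((y : G) * f') * f⁻¹) * (x : G)⁻¹ * (f'⁻¹ * (y : G)⁻¹) := by group
      _ = (x : G) * ((y : G) * f') * (x : G)⁻¹ * (f'⁻¹ * (y : G)⁻¹) := by
          rw [← c1, mul_inv_cancel_right]
      _ = (x : G) * (y : G) * (f' * (x : G)⁻¹ * f'⁻¹) * (y : G)⁻¹ := by group
      _ = _ := by rw [← c2, mul_inv_cancel_right]
  have haddl : ∀ k k' l, B (k + k') l = B k l + B k' l := by
    intro k k' l
    have e : k + k' = π (s k * s k') := by rw [C.add, hs, hs]
    rw [e, ← hs l, hval]
    conv_rhs => rw [← hs k, ← hs k', hval, hval]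
    rw [← ofMul_mul]
    refine congrArg Additive.ofMul (Subtype.ext ?_)
    push_cast
    have hc := hcz _ (D.commutator_le_fix (commutator_mem_commutator (s k').2 (s l).2))
    calc ⁅((s k : P) : G) * (s k' : P), ((s l : P) : G)⁆
        = ((s k : P) : G) * ⁅((s k' : P) : G), ((s l : P) : G)⁆ *
          (((s l : P) : G) * ((s k : P) : G)⁻¹ * ((s l : P) : G)⁻¹) := by
          simp only [commutatorElement_def]; group
      _ = ⁅((s k' : P) : G), ((s l : P) : G)⁆ * ⁅((s k : P) : G), ((s l : P) : G)⁆ := by
          rw [hc]; simp only [commutatorElement_def]; group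
      _ = _ := (hc _).symm
  have hskew : ∀ k l, B l k = -B k l := by
    intro k l
    rw [← hs k, ← hs l, hval, hval, ← ofMul_inv]
    exact congrArg Additive.ofMul (Subtype.ext (by simp [commutatorElement_inv]))
  have hself : ∀ k, B k k = 0 := by
    intro k
    rw [← hs k, hval]
    exact congrArg Additive.ofMul (Subtype.ext (commutatorElement_self _))
  have haddr : ∀ k l l', B k (l + l') = B k l + B k l' := by
    intro k l l'
    rw [hskew (l + l') k, haddl, neg_add, ← hskew, ← hskew]
  have hzl : ∀ l, B 0 l = 0 := fun l => by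
    have h := haddl 0 0 l
    rw [add_zero] at h
    exact add_eq_left.1 h.symm
  have hzr : ∀ k, B k 0 = 0 := fun k => by
    have h := haddr k 0 0
    rw [add_zero] at h
    exact add_eq_left.1 h.symm
  have hnegl : ∀ k l, B (-k) l = -B k l := fun k l => by
    rw [eq_neg_iff_add_eq_zero, ← haddl, neg_add_cancel, hzl]
  have hnegr : ∀ k l, B k (-l) = -B k l := fun k l => by
    rw [eq_neg_iff_add_eq_zero, ← haddr, neg_add_cancel, hzr]
  have hinv : ∀ k l, B (ζ * k) (ζ * l) = B k l := by
    intro k l
    conv_lhs => rw [← hs k, ← hs l, ← C.conj, ← C.conj, hval]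
    refine congrArg Additive.ofMul (Subtype.ext ?_)
    show ⁅g * ((s k : P) : G) * g⁻¹, g * ((s l : P) : G) * g⁻¹⁆ = ⁅((s k : P) : G), ((s l : P) : G)⁆
    have hc := (mem_fix.1 (D.commutator_le_fix (commutator_mem_commutator (s k).2 (s l).2))).2
    calc ⁅g * ((s k : P) : G) * g⁻¹, g * ((s l : P) : G) * g⁻¹⁆
        = g * ⁅((s k : P) : G), ((s l : P) : G)⁆ * g⁻¹ := by simp only [commutatorElement_def]; group
      _ = _ := by rw [hc.eq, mul_inv_cancel_right]
  -- the commutator subgroup is covered
  have hPcard : Nat.card P = Nat.card K * Nat.card F := by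
    let πm : P →* Multiplicative K :=
      MonoidHom.mk' (fun x => Multiplicative.ofAdd (π x)) fun x y => by rw [C.add]; rfl
    have h := Subgroup.card_eq_card_quotient_mul_card_subgroup πm.ker
    rw [Nat.card_congr (QuotientGroup.quotientKerEquivRange πm).toEquiv,
      MonoidHom.range_eq_top.2 (fun k => by
        obtain ⟨x, hx⟩ := C.surj (Multiplicative.toAdd k)
        exact ⟨x, by show Multiplicative.ofAdd (π x) = k; rw [hx]; rfl⟩),
      Subgroup.card_top] at h
    rw [h]
    congr 1
    rw [show πm.ker = F.subgroupOf P from Subgroup.ext fun x => by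
      rw [MonoidHom.mem_ker, mem_subgroupOf, hF, ← C.zero_iff]; rfl]
    exact Nat.card_congr (subgroupOfEquivOfLe (show F ≤ P from inf_le_left)).toEquiv
  suffices hFle : Nat.card F ≤ if a % 2 = 1 then 1 else p ^ (a / 2) by
    rw [hPcard, hK]
    refine (Nat.mul_le_mul_left _ hFle).trans (le_of_eq ?_)
    split_ifs with hodd
    · rw [mul_one]
    · rw [← pow_add]; congr 1; omega
  have hapos : 0 < a := orderOf_pos_zmod D.prime_ne
  by_cases hzero : ∀ k l, B k l = 0
  · have hbot : F = ⊥ := by
      rw [eq_bot_iff]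
      refine D.fix_le_commutator.trans ?_
      rw [commutator_le]
      intro x hx y hy
      have h := hzero (π ⟨x, hx⟩) (π ⟨y, hy⟩)
      rw [hval] at h
      exact mem_bot.2 (congrArg Subtype.val (congrArg Additive.toMul h))
    rw [hbot, Subgroup.card_bot]
    split_ifs
    · exact le_rfl
    · exact Nat.one_le_pow _ _ hp.out.pos
  -- nondegeneracy
  have hnondeg : ∀ l, (∀ k, B k l = 0) → l = 0 := by
    intro l hl
    by_contra hl0
    refine hzero fun k m => ?_
    let A : AddSubgroup K :=
      { carrier := {l | ∀ k, B k l = 0}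
        zero_mem' := hzr
        add_mem' := fun {x y} hx hy k => by rw [haddr, hx, hy, add_zero]
        neg_mem' := fun {x} hx k => by rw [hnegr, hx, neg_zero] }
    have hA : ∀ l ∈ A, ζ * l ∈ A := fun l hl k => by
      have hζ0 : ζ ≠ 0 := fun e => by
        have := C.pow; rw [e, zero_pow hq.out.ne_zero] at this; exact zero_ne_one this
      rw [← mul_inv_cancel_left₀ hζ0 k, hinv]
      exact hl _
    have h1 := mul_mem_of_gen C.gen hA (m / l) (a := l) hl
    rw [div_mul_cancel₀ _ hl0] at h1
    exact h1 k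
  -- the adjoint involution
  have hadj : ∀ c : K, ∃ c' : K, ∀ k l, B (c * k) l = B k (c' * l) := by
    have hS : Subring.closure ({ζ} : Set K) ≤
      { carrier := {c | ∃ c' : K, ∀ k l, B (c * k) l = B k (c' * l)}
        one_mem' := ⟨1, fun k l => by rw [one_mul, one_mul]⟩
        mul_mem' := by
          rintro c d ⟨c', hc⟩ ⟨d', hd⟩
          exact ⟨d' * c', fun k l => by rw [mul_assoc, hc, hd, mul_assoc]⟩
        zero_mem' := ⟨0, fun k l => by rw [zero_mul, zero_mul, hzl, hzr]⟩
        add_mem' := by
          rintro c d ⟨c', hc⟩ ⟨d', hd⟩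
          exact ⟨c' + d', fun k l => by rw [add_mul, add_mul, haddl, haddr, hc, hd]⟩
        neg_mem' := by
          rintro c ⟨c', hc⟩
          exact ⟨-c', fun k l => by rw [neg_mul, neg_mul, hnegl, hnegr, hc]⟩ : Subring K } := by
      rw [Subring.closure_le]
      intro c hc
      rw [Set.mem_singleton_iff.1 hc]
      refine ⟨ζ ^ (q - 1), fun k l => ?_⟩
      conv_rhs => rw [← hinv, ← mul_assoc, ← pow_succ',
        Nat.sub_add_cancel hq.out.one_le, C.pow, one_mul]
    exact fun c => hS (C.gen ▸ Subring.mem_top c)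
  choose σ hσ using hadj
  have huniq : ∀ c d : K, (∀ k l, B k (c * l) = B k (d * l)) → c = d := by
    intro c d h
    have h1 : c * 1 - d * 1 = 0 := hnondeg _ fun k => by
      rw [sub_eq_add_neg, haddr, hnegr, h k 1, add_neg_cancel]
    rwa [mul_one, mul_one, sub_eq_zero] at h1
  let σh : K →+* K :=
    { toFun := σ
      map_one' := huniq _ _ fun k l => by rw [← hσ, one_mul, one_mul]
      map_mul' := fun c d => huniq _ _ fun k l => by
        rw [← hσ, mul_comm c d, mul_assoc, hσ, hσ, mul_assoc]
      map_zero' := huniq _ _ fun k l => by rw [← hσ, zero_mul, zero_mul, hzl, hzr]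
      map_add' := fun c d => huniq _ _ fun k l => by
        rw [← hσ, add_mul, add_mul, haddl, haddr, hσ, hσ] }
  have hσσ : ∀ c, σh (σh c) = c := fun c => huniq _ _ fun k l => by
    show B k (σ (σ c) * l) = B k (c * l)
    rw [← hσ, hskew l, ← hσ, hskew (c * l)]
  let L : K →+ Additive F := AddMonoidHom.mk' (fun l => B 1 l) fun l l' => haddr 1 l l'
  have hB : ∀ k l, B k l = L (σh k * l) := fun k l => by
    show B k l = B 1 (σ k * l)
    rw [← hσ, mul_one]
  have hL : ∀ x, L (σh x * x) = 0 := fun x => by rw [← hB, hself]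
  refine le_trans ?_ (card_range_le_half C.char σh hσσ L hL hK hapos)
  let W : Subgroup G := ((AddSubgroup.toSubgroup' L.range)).map F.subtype
  have hFW : F ≤ W := D.fix_le_commutator.trans (commutator_le.2 fun x hx y hy =>
    ⟨⟨⁅x, y⁆, D.commutator_le_fix (commutator_mem_commutator hx hy)⟩,
      ⟨σh (π ⟨x, hx⟩) * π ⟨y, hy⟩, by rw [← hB, hval]; rfl⟩, rfl⟩)
  refine (Subgroup.card_le_of_le hFW).trans (le_of_eq ?_)
  rw [Subgroup.card_map_of_injective F.subtype_injective]
  rfl

end CfsgLib.SolvStruct.UniversalSchmidt
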