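import Cfsg.Agent.Lib.PGroups.Basic
import Cfsg.Agent.Lib.SolvStruct.NilFactor
import Cfsg.Agent.Lib.Transfer.PResidual

/-!
# Minimal non-`p`-nilpotent groups as a normal `p`-group with a minimally moving element

`Datum p q r P g`: `g` of order `q ^ r` moves the normal `p`-subgroup `P`, `g ^ q` does not, and
every proper `g`-invariant subgroup of `P` is centralized by `g`. Then the fixed points of `g` in
`P` are central, and contain the commutators and the `p`-th powers.
-/

set_option autoImplicit false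
set_option linter.all false

namespace CfsgLib.SolvStruct.UniversalSchmidt

open Subgroup
open scoped commutatorElement

variable {G : Type*} [Group G] [Finite G] {p q r : ℕ} [hp : Fact p.Prime] [hq : Fact q.Prime]

/-- A normal `p`-subgroup `P` minimally moved by `g`. -/
structure Datum (p q r : ℕ) {G : Type*} [Group G] (P : Subgroup G) (g : G) : Prop where
  pgroup : IsPGroup p P
  normal : P.Normal
  prime_ne : p ≠ q
  order : orderOf g = q ^ r
  gen : ∀ x : G, ∃ π ∈ P, ∃ i : ℕ, x = π * g ^ i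
  pow : ∀ x ∈ P, Commute (g ^ q) x
  moved : ∃ x ∈ P, ¬ Commute g x
  minimal : ∀ M : Subgroup G, M ≤ P → (∀ m ∈ M, g * m * g⁻¹ ∈ M) → M ≠ P → ∀ m ∈ M, Commute g m

/-- The fixed points of `g` in `P`. -/
def Fix (P : Subgroup G) (g : G) : Subgroup G := P ⊓ centralizer ({g} : Set G)

theorem mem_fix {P : Subgroup G} {g x : G} : x ∈ Fix P g ↔ x ∈ P ∧ Commute g x := by
  rw [Fix, mem_inf, mem_centralizer_singleton_iff]
  exact and_congr_right' ⟨fun h => h.symm, fun h => h.symm⟩

variable {P : Subgroup G} {g : G} (D : Datum p q r P g)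
include D

theorem Datum.conj_mem {x : G} (hx : x ∈ P) (y : G) : y * x * y⁻¹ ∈ P := D.normal.conj_mem x hx y

theorem Datum.eq_one_of_pow {d : G} (hd : d ∈ P) (h : d ^ q ^ r = 1) : d = 1 := by
  obtain ⟨k, hk⟩ := IsPGroup.iff_orderOf.1 D.pgroup ⟨d, hd⟩
  rw [Subgroup.orderOf_mk] at hk
  rw [← orderOf_eq_one_iff]
  exact Nat.eq_one_of_dvd_coprimes
    (((Nat.coprime_primes hp.out hq.out).2 D.prime_ne).pow k r)
    (hk ▸ dvd_rfl) (orderOf_dvd_of_pow_eq_one h)

theorem Datum.commutator_le_fix : ⁅P, P⁆ ≤ Fix P g := by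
  haveI := D.normal
  have hle : ⁅P, P⁆ ≤ P := commutator_le_right P P
  have hne : ⁅P, P⁆ ≠ P := by
    intro e
    obtain ⟨x, hx, hxg⟩ := D.moved
    haveI : Nontrivial P := by
      refine ⟨⟨x, hx⟩, 1, fun e => hxg ?_⟩
      rw [show x = 1 from congrArg Subtype.val e]
      exact Commute.one_right g
    haveI := D.pgroup.isNilpotent
    have hlt := Group.IsSolvable.commutator_lt_top_of_nontrivial P
    refine hlt.ne ?_
    refine map_injective P.subtype_injective ?_
    rw [map_subtype_commutator, ← MonoidHom.range_eq_map, range_subtype, e]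
  intro c hc
  refine mem_fix.2 ⟨hle hc, D.minimal _ hle (fun m hm => ?_) hne c hc⟩
  exact (inferInstance : (⁅P, P⁆).Normal).conj_mem m hm g

theorem Datum.fix_comm {f x : G} (hf : f ∈ Fix P g) (hx : x ∈ P) : Commute f x := by
  obtain ⟨hfP, hfg⟩ := mem_fix.1 hf
  set Z := P ⊓ centralizer ((Fix P g : Subgroup G) : Set G) with hZ
  suffices Z = P by
    have h := (mem_inf.1 (this.symm ▸ hx : x ∈ Z)).2
    exact (mem_centralizer_iff.1 h f hf)
  by_contra hne
  have hZg : ∀ m ∈ Z, g * m * g⁻¹ ∈ Z := by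
    intro m hm
    obtain ⟨hmP, hmc⟩ := mem_inf.1 hm
    refine mem_inf.2 ⟨D.conj_mem hmP g, mem_centralizer_iff.2 fun a ha => ?_⟩
    obtain ⟨-, hag⟩ := mem_fix.1 ha
    have h1 : Commute a m := mem_centralizer_iff.1 hmc a ha
    have h2 := (Commute.conj_iff g).2 h1
    rw [hag.eq, mul_inv_cancel_right] at h2
    exact h2.eq
  have hfixZ := D.minimal Z inf_le_left hZg hne
  obtain ⟨y, hy, hyg⟩ := D.moved
  have hd : y⁻¹ * (g * y * g⁻¹) ∈ Z := by
    refine mem_inf.2 ⟨mul_mem (inv_mem hy) (D.conj_mem hy g), mem_centralizer_iff.2 fun a ha => ?_⟩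
    obtain ⟨haP, hag⟩ := mem_fix.1 ha
    have hc : Commute g ⁅y, a⁆ :=
      (mem_fix.1 (D.commutator_le_fix (commutator_mem_commutator hy haP))).2
    have h1 : g * (y * a * y⁻¹) * g⁻¹ = y * a * y⁻¹ := by
      calc g * (y * a * y⁻¹) * g⁻¹ = g * ⁅y, a⁆ * g⁻¹ * (g * a * g⁻¹) := by
            rw [commutatorElement_def]; group
        _ = ⁅y, a⁆ * a := by rw [hc.eq, mul_inv_cancel_right, hag.eq, mul_inv_cancel_right]
        _ = _ := by rw [commutatorElement_def]; group
    have h2 : (g * y * g⁻¹) * a * (g * y * g⁻¹)⁻¹ = y * a * y⁻¹ := by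
      rw [← h1]
      have e : g⁻¹ * a * g = a := by rw [mul_assoc, hag.symm.eq, inv_mul_cancel_left]
      calc (g * y * g⁻¹) * a * (g * y * g⁻¹)⁻¹ = g * y * (g⁻¹ * a * g) * y⁻¹ * g⁻¹ := by group
        _ = _ := by rw [e]; group
    show a * (y⁻¹ * (g * y * g⁻¹)) = y⁻¹ * (g * y * g⁻¹) * a
    calc a * (y⁻¹ * (g * y * g⁻¹)) = y⁻¹ * (y * a * y⁻¹) * (g * y * g⁻¹) := by group
      _ = y⁻¹ * ((g * y * g⁻¹) * a * (g * y * g⁻¹)⁻¹) * (g * y * g⁻¹) := by rw [h2]
      _ = _ := by group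
  set d := y⁻¹ * (g * y * g⁻¹) with hdd
  have hdg : Commute g d := hfixZ d hd
  have hpow : ∀ k : ℕ, g ^ k * y * (g ^ k)⁻¹ = y * d ^ k := by
    intro k
    induction k with
    | zero => simp
    | succ k ih =>
      calc g ^ (k + 1) * y * (g ^ (k + 1))⁻¹ = g * (g ^ k * y * (g ^ k)⁻¹) * g⁻¹ := by
            rw [pow_succ']; group
        _ = (g * y * g⁻¹) * (g * d ^ k * g⁻¹) := by rw [ih]; group
        _ = y * d * d ^ k := by
            rw [(hdg.pow_right k).eq, mul_inv_cancel_right, hdd]; group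
        _ = _ := by rw [pow_succ', mul_assoc]
  have h1 : d ^ q ^ r = 1 := by
    have := hpow (q ^ r)
    rw [← D.order, pow_orderOf_eq_one, one_mul, inv_one, mul_one, left_eq_mul] at this
    rwa [← D.order]
  have h2 : d = 1 := D.eq_one_of_pow (mem_inf.1 hd).1 h1
  refine hyg ?_
  rw [hdd, inv_mul_eq_one] at h2
  exact mul_inv_eq_iff_eq_mul.1 h2.symm

theorem Datum.fix_central {f : G} (hf : f ∈ Fix P g) : f ∈ center G := by
  refine mem_center_iff.2 fun x => ?_
  obtain ⟨π, hπ, i, rfl⟩ := D.gen x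
  exact ((D.fix_comm hf hπ).symm.mul_left ((mem_fix.1 hf).2.pow_left i)).eq

theorem Datum.pow_mem_fix {x : G} (hx : x ∈ P) : x ^ p ∈ Fix P g := by
  set M := (frattini P).map P.subtype with hM
  have hle : M ≤ P := map_subtype_le _
  haveI := D.normal
  haveI : Nontrivial P := by
    obtain ⟨y, hy, hyg⟩ := D.moved
    refine ⟨⟨y, hy⟩, 1, fun e => hyg ?_⟩
    rw [show y = 1 from congrArg Subtype.val e]
    exact Commute.one_right g
  haveI := D.pgroup.isNilpotent
  have hne : M ≠ P := by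
    intro e
    refine CfsgLib.PGroups.frattini_ne_top (G := P) (map_injective P.subtype_injective ?_)
    rw [← MonoidHom.range_eq_map, range_subtype, ← hM, e]
  haveI : M.Normal := by rw [hM]; infer_instance
  refine mem_fix.2 ⟨pow_mem hx p, D.minimal M hle (fun m hm => ‹M.Normal›.conj_mem m hm g) hne _ ?_⟩
  exact ⟨⟨x, hx⟩ ^ p, CfsgLib.PGroups.pow_mem_frattini D.pgroup _, rfl⟩

theorem Datum.eq_of_invariant {M : Subgroup G} (hM : M ≤ P) (hinv : ∀ m ∈ M, g * m * g⁻¹ ∈ M)
    {m : G} (hm : m ∈ M) (hmF : m ∉ Fix P g) : M = P := by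
  by_contra hne
  exact hmF (mem_fix.2 ⟨hM hm, D.minimal M hM hinv hne m hm⟩)

end CfsgLib.SolvStruct.UniversalSchmidt
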