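import Cfsg.Agent.Lib.SolvStruct.UniversalSchmidt.Datum
import Mathlib.RingTheory.LittleWedderburn

/-!
# The field of a datum

`P` modulo the fixed points of `g` is the additive group of the field generated by the action of
`g`, and the fixed points are the commutator subgroup.
-/

set_option autoImplicit false
set_option linter.all false

namespace CfsgLib.SolvStruct.UniversalSchmidt

open Subgroup
open scoped commutatorElement

universe u

variable {G : Type u} [Group G] [Finite G] {p q r : ℕ} [hp : Fact p.Prime] [hq : Fact q.Prime]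

/-- A coordinate on `P` modulo the fixed points, in a field generated by the action of `g`. -/
structure Coord {G : Type u} [Group G] (p q : ℕ) (P : Subgroup G) (g : G) (hP : P.Normal)
    (K : Type u) [Field K] (ζ : K) (π : P → K) : Prop where
  add : ∀ x y, π (x * y) = π x + π y
  zero_iff : ∀ x, π x = 0 ↔ (x : G) ∈ Fix P g
  surj : Function.Surjective π
  conj : ∀ x : P, π ⟨g * x * g⁻¹, hP.conj_mem x x.2 g⟩ = ζ * π x
  gen : Subring.closure ({ζ} : Set K) = ⊤
  char : (p : K) = 0
  pow : ζ ^ q = 1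
  ne_one : ζ ≠ 1

variable {P : Subgroup G} {g : G} (D : Datum p q r P g)
include D

theorem Datum.exists_coord :
    ∃ (K : Type u) (_ : Field K) (_ : Fintype K) (ζ : K) (π : P → K), Coord p q P g D.normal K ζ π := by
  classical
  set N : Subgroup P := (Fix P g).subgroupOf P with hNdef
  haveI hN : N.Normal := ⟨fun n hn x => by
    rw [hNdef, mem_subgroupOf] at hn ⊢
    have := (D.fix_comm hn x.2).eq
    push_cast
    rw [← this, mul_inv_cancel_right]
    exact hn⟩
  have hcomm : ∀ a b : P ⧸ N, a * b = b * a := by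
    intro a b
    obtain ⟨x, rfl⟩ := QuotientGroup.mk_surjective a
    obtain ⟨y, rfl⟩ := QuotientGroup.mk_surjective b
    rw [← QuotientGroup.mk_mul, ← QuotientGroup.mk_mul, QuotientGroup.eq, hNdef, mem_subgroupOf]
    have h := D.commutator_le_fix (commutator_mem_commutator (inv_mem y.2) (inv_mem x.2))
    simpa [commutatorElement_def, mul_assoc] using h
  letI : CommGroup (P ⧸ N) := { (inferInstance : Group (P ⧸ N)) with mul_comm := hcomm }
  let φ : P →* P :=
    { toFun := fun x => ⟨g * x * g⁻¹, D.normal.conj_mem x x.2 g⟩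
      map_one' := Subtype.ext (by simp)
      map_mul' := fun x y => Subtype.ext (by simp [mul_assoc]) }
  have hφN : N ≤ N.comap φ := fun x hx => by
    rw [mem_comap, hNdef, mem_subgroupOf]
    rw [hNdef, mem_subgroupOf] at hx
    show g * (x : G) * g⁻¹ ∈ Fix P g
    rw [((mem_fix.1 hx).2).eq, mul_inv_cancel_right]
    exact hx
  let T : AddMonoid.End (Additive (P ⧸ N)) := MonoidHom.toAdditive (QuotientGroup.map N N φ hφN)
  have hT : ∀ x : P, T (Additive.ofMul (x : P ⧸ N)) = Additive.ofMul ((φ x : P) : P ⧸ N) := fun x => rfl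
  -- invariant subgroups
  have hirr : ∀ A : AddSubgroup (Additive (P ⧸ N)), (∀ a ∈ A, T a ∈ A) → A = ⊥ ∨ A = ⊤ := by
    intro A hA
    let M : Subgroup G :=
      (((AddSubgroup.toSubgroup' A).comap (QuotientGroup.mk' N))).map P.subtype
    have hMP : M ≤ P := map_subtype_le _
    have hmem : ∀ x : P, (x : G) ∈ M ↔ Additive.ofMul (x : P ⧸ N) ∈ A := by
      intro x
      constructor
      · rintro ⟨y, hy, e⟩
        obtain rfl : y = x := Subtype.ext e
        exact hy
      · exact fun h => ⟨x, h, rfl⟩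
    by_cases hMF : ∀ m ∈ M, m ∈ Fix P g
    · left
      refine (AddSubgroup.eq_bot_iff_forall _).2 fun a ha => ?_
      obtain ⟨x, hx⟩ := QuotientGroup.mk_surjective (Additive.toMul a)
      have e : a = Additive.ofMul (x : P ⧸ N) := by rw [hx]; rfl
      rw [e] at ha ⊢
      have h1 : (x : P ⧸ N) = 1 :=
        (QuotientGroup.eq_one_iff x).2 (mem_subgroupOf.2 (hMF _ ((hmem x).2 ha)))
      rw [h1]; rfl
    · right
      push Not at hMF
      obtain ⟨m, hm, hmF⟩ := hMF
      have hMeq : M = P := D.eq_of_invariant hMP (fun m hm => by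
        have := hA _ ((hmem ⟨m, hMP hm⟩).1 hm)
        rw [hT] at this
        exact (hmem (φ ⟨m, hMP hm⟩)).2 this) hm hmF
      refine eq_top_iff.2 fun a _ => ?_
      obtain ⟨x, hx⟩ := QuotientGroup.mk_surjective (Additive.toMul a)
      rw [show a = Additive.ofMul (x : P ⧸ N) by rw [hx]; rfl]
      exact (hmem x).1 (hMeq.symm ▸ x.2)
  -- the ring generated by `T`
  let R : Subring (AddMonoid.End (Additive (P ⧸ N))) := Subring.closure {T}
  have hTR : T ∈ R := Subring.subset_closure rfl
  have hRcomm : ∀ a ∈ R, ∀ b ∈ R, a * b = b * a := by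
    intro a ha b hb
    have h1 : R ≤ Subring.centralizer {T} := Subring.closure_le.2 (by
      intro x hx
      exact Subring.mem_centralizer_iff.2 fun y hy => by
        rw [Set.mem_singleton_iff.1 hy, Set.mem_singleton_iff.1 hx])
    have h2 : R ≤ Subring.centralizer (R : Set _) := Subring.closure_le.2 (by
      intro x hx
      exact Subring.mem_centralizer_iff.2 fun y hy =>
        (Subring.mem_centralizer_iff.1 (h1 hy) x hx).symm)
    exact (Subring.mem_centralizer_iff.1 (h2 hb) a ha)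
  letI : CommRing R :=
    { (inferInstance : Ring R) with mul_comm := fun a b => Subtype.ext (hRcomm a a.2 b b.2) }
  haveI : Finite (AddMonoid.End (Additive (P ⧸ N))) :=
    Finite.of_injective (fun f => (f : Additive (P ⧸ N) → Additive (P ⧸ N))) DFunLike.coe_injective
  have hinj : ∀ k : R, k ≠ 0 → Function.Injective (k : AddMonoid.End (Additive (P ⧸ N))) := by
    intro k hk
    let A : AddSubgroup (Additive (P ⧸ N)) :=
      AddMonoidHom.ker (k : AddMonoid.End (Additive (P ⧸ N)))
    have hA : ∀ a ∈ A, T a ∈ A := by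
      intro a ha
      have ha : (k : AddMonoid.End (Additive (P ⧸ N))) a = 0 := AddMonoidHom.mem_ker.1 ha
      refine AddMonoidHom.mem_ker.2 ?_
      show ((k : AddMonoid.End (Additive (P ⧸ N))) * T) a = 0
      rw [hRcomm _ k.2 T hTR]
      show T ((k : AddMonoid.End (Additive (P ⧸ N))) a) = 0
      rw [ha, map_zero]
    rcases hirr A hA with e | e
    · exact (AddMonoidHom.ker_eq_bot_iff _).1 e
    · refine absurd (Subtype.ext (AddMonoidHom.ext fun a => ?_)) hk
      exact AddMonoidHom.mem_ker.1 (show a ∈ A by rw [e]; trivial)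
  obtain ⟨x₀, hx₀, hx₀g⟩ := D.moved
  set v₀ : Additive (P ⧸ N) := Additive.ofMul ((⟨x₀, hx₀⟩ : P) : P ⧸ N) with hv₀
  have hv₀ne : v₀ ≠ 0 := by
    intro e
    have e' : ((⟨x₀, hx₀⟩ : P) : P ⧸ N) = 1 := congrArg Additive.toMul e
    exact hx₀g (mem_fix.1 (mem_subgroupOf.1 ((QuotientGroup.eq_one_iff _).1 e'))).2
  haveI : Nontrivial R := ⟨⟨1, 0, fun e => hv₀ne (by
    have := congrArg (fun k : R => (k : AddMonoid.End (Additive (P ⧸ N))) v₀) e
    simpa using this)⟩⟩
  haveI : NoZeroDivisors R := ⟨fun {a b} hab => by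
    by_contra hne
    push Not at hne
    refine hne.2 (Subtype.ext (AddMonoidHom.ext fun v => hinj a hne.1 ?_))
    have := congrArg (fun k : R => (k : AddMonoid.End (Additive (P ⧸ N))) v) hab
    have h' : (a : AddMonoid.End (Additive (P ⧸ N))) ((b : AddMonoid.End (Additive (P ⧸ N))) v) = 0 := by
      simpa using this
    exact h'.trans (map_zero _).symm⟩
  haveI : IsDomain R := NoZeroDivisors.to_isDomain _
  haveI := Fintype.ofFinite R
  letI : Field R := Fintype.fieldOfDomain R
  let ev : R →+ Additive (P ⧸ N) :=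
    { toFun := fun k => (k : AddMonoid.End (Additive (P ⧸ N))) v₀
      map_zero' := rfl
      map_add' := fun _ _ => rfl }
  have hev : Function.Bijective ev := by
    refine ⟨(injective_iff_map_eq_zero ev).2 fun k hk => ?_, ?_⟩
    · by_contra hne
      exact hv₀ne (hinj k hne (hk.trans (map_zero _).symm))
    · have htop : ev.range = ⊤ := by
        refine (hirr ev.range ?_).resolve_left ?_
        · rintro _ ⟨k, rfl⟩
          exact ⟨⟨T, hTR⟩ * k, rfl⟩
        · intro e
          have : ev 1 = 0 := AddSubgroup.mem_bot.1 (e ▸ ⟨1, rfl⟩)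
          exact hv₀ne this
      exact AddMonoidHom.range_eq_top.1 htop
  let e := AddEquiv.ofBijective ev hev
  let π : P → R := fun x => e.symm (Additive.ofMul (x : P ⧸ N))
  have hπconj : ∀ x : P, π (φ x) = (⟨T, hTR⟩ : R) * π x := by
    intro x
    refine hev.1 ?_
    show e (π (φ x)) = T ((π x : R).1 v₀)
    rw [show e (π (φ x)) = Additive.ofMul ((φ x : P) : P ⧸ N) from e.apply_symm_apply _, ← hT]
    exact congrArg T (e.apply_symm_apply _).symm
  have hπ0 : ∀ x : P, π x = 0 ↔ (x : G) ∈ Fix P g := by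
    intro x
    rw [show π x = 0 ↔ Additive.ofMul (x : P ⧸ N) = 0 from e.symm.map_eq_zero_iff]
    rw [show Additive.ofMul (x : P ⧸ N) = 0 ↔ (x : P ⧸ N) = 1 from Iff.rfl, QuotientGroup.eq_one_iff,
      hNdef, mem_subgroupOf]
  refine ⟨R, inferInstance, inferInstance, ⟨T, hTR⟩, π,
    ⟨fun x y => ?_, hπ0, ?_, hπconj, ?_, ?_, ?_, ?_⟩⟩
  · show e.symm _ = e.symm _ + e.symm _
    rw [QuotientGroup.mk_mul, ofMul_mul, map_add]
  · intro k
    obtain ⟨x, hx⟩ := QuotientGroup.mk_surjective (Additive.toMul (e k))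
    exact ⟨x, by show e.symm _ = k; rw [hx]; exact e.symm_apply_apply k⟩
  · refine eq_top_iff.2 fun k _ => ?_
    have hle : R ≤ (Subring.closure ({(⟨T, hTR⟩ : R)} : Set R)).map R.subtype :=
      Subring.closure_le.2 (by
        intro x hx
        rw [Set.mem_singleton_iff.1 hx]
        exact ⟨_, Subring.subset_closure rfl, rfl⟩)
    obtain ⟨k', hk', ek⟩ := hle k.2
    obtain rfl : k' = k := Subtype.ext ek
    exact hk'
  · refine hev.1 ?_
    show ((((p : ℕ) : R)) : AddMonoid.End (Additive (P ⧸ N))) v₀ = 0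
    have h1 : p • v₀ = 0 := by
      show Additive.ofMul (((⟨x₀, hx₀⟩ : P) : P ⧸ N) ^ p) = 0
      rw [← QuotientGroup.mk_pow, (QuotientGroup.eq_one_iff _).2]
      · rfl
      · rw [hNdef, mem_subgroupOf, SubgroupClass.coe_pow]
        exact D.pow_mem_fix hx₀
    simpa using h1
  · refine hev.1 ?_
    have hpw : ∀ (k : ℕ) (x : P), ((φ^[k] x : P) : G) = g ^ k * x * (g ^ k)⁻¹ := by
      intro k
      induction k with
      | zero => intro x; simp
      | succ k ih =>
        intro x
        rw [Function.iterate_succ_apply']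
        show g * ((φ^[k] x : P) : G) * g⁻¹ = _
        rw [ih, pow_succ']; group
    have hT' : ∀ (k : ℕ) (x : P),
        ((⟨T, hTR⟩ : R) ^ k) * π x = π (φ^[k] x) := by
      intro k
      induction k with
      | zero => intro x; simp
      | succ k ih => intro x; rw [Function.iterate_succ_apply', hπconj, ← ih, pow_succ', mul_assoc]
    have h1 := hT' q ⟨x₀, hx₀⟩
    have h2 : φ^[q] (⟨x₀, hx₀⟩ : P) = ⟨x₀, hx₀⟩ :=
      Subtype.ext (by rw [hpw, (D.pow x₀ hx₀).eq, mul_inv_cancel_right])
    rw [h2] at h1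
    have h3 : π ⟨x₀, hx₀⟩ ≠ 0 := fun e0 => hx₀g (mem_fix.1 ((hπ0 _).1 e0)).2
    rw [mul_eq_right₀ h3] at h1
    rw [h1]
  · intro h1
    have h2 := hπconj ⟨x₀, hx₀⟩
    rw [h1, one_mul] at h2
    have h3 : π (φ ⟨x₀, hx₀⟩ * (⟨x₀, hx₀⟩ : P)⁻¹) = 0 := by
      show e.symm (Additive.ofMul _) = 0
      rw [QuotientGroup.mk_mul, QuotientGroup.mk_inv, ofMul_mul, ofMul_inv, map_add, map_neg]
      show π (φ ⟨x₀, hx₀⟩) + -π ⟨x₀, hx₀⟩ = 0
      rw [h2, add_neg_cancel]
    have hd : g * x₀ * g⁻¹ * x₀⁻¹ ∈ Fix P g := (hπ0 _).1 h3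
    obtain ⟨hdP, hdg⟩ := mem_fix.1 hd
    set d := g * x₀ * g⁻¹ * x₀⁻¹ with hdd
    have hpow : ∀ k : ℕ, g ^ k * x₀ * (g ^ k)⁻¹ = d ^ k * x₀ := by
      intro k
      induction k with
      | zero => simp
      | succ k ih =>
        calc g ^ (k + 1) * x₀ * (g ^ (k + 1))⁻¹ = g * (g ^ k * x₀ * (g ^ k)⁻¹) * g⁻¹ := by
              rw [pow_succ']; group
          _ = (g * d ^ k * g⁻¹) * (g * x₀ * g⁻¹) := by rw [ih]; group
          _ = d ^ k * (d * x₀) := by
              rw [(hdg.pow_right k).eq, mul_inv_cancel_right, hdd]; group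
          _ = _ := by rw [pow_succ]; exact (mul_assoc _ _ _).symm
    have hd1 : d ^ q ^ r = 1 := by
      have := hpow (q ^ r)
      rw [← D.order, pow_orderOf_eq_one, one_mul, inv_one, mul_one, right_eq_mul] at this
      rwa [← D.order]
    have := D.eq_one_of_pow hdP hd1
    rw [hdd, mul_inv_eq_one] at this
    exact hx₀g (mul_inv_eq_iff_eq_mul.1 this)

/-- The fixed points lie in the commutator subgroup. -/
theorem Datum.fix_le_commutator : Fix P g ≤ ⁅P, P⁆ := by
  haveI := D.normal
  set C := ⁅P, P⁆ with hC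
  have hCP : C ≤ P := commutator_le_right P P
  have hcomm : ∀ x ∈ P, ∀ y ∈ P, ((x : G ⧸ C) * y) = (y : G ⧸ C) * x := by
    intro x hx y hy
    rw [← QuotientGroup.mk_mul, ← QuotientGroup.mk_mul, QuotientGroup.eq]
    have h := commutator_mem_commutator (inv_mem hy) (inv_mem hx)
    simpa [commutatorElement_def, mul_assoc] using h
  let f : P →* G ⧸ C :=
    { toFun := fun y => (((y : G)⁻¹ * (g * y * g⁻¹) : G) : G ⧸ C)
      map_one' := by simp
      map_mul' := fun a b => by
        have h1 : (a : G)⁻¹ * (g * a * g⁻¹) ∈ P := mul_mem (inv_mem a.2) (D.conj_mem a.2 g)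
        have e : ((a * b : P) : G)⁻¹ * (g * ((a * b : P) : G) * g⁻¹) =
            ((b : G)⁻¹ * ((a : G)⁻¹ * (g * a * g⁻¹))) * (g * b * g⁻¹) := by
          push_cast; group
        rw [e, QuotientGroup.mk_mul, QuotientGroup.mk_mul _ (b : G)⁻¹,
          hcomm _ (inv_mem b.2) _ h1, mul_assoc, ← QuotientGroup.mk_mul] }
  set W := P ⊓ f.range.comap (QuotientGroup.mk' C) with hW
  have hWP : W = P := by
    obtain ⟨y, hy, hyg⟩ := D.moved
    refine D.eq_of_invariant inf_le_left ?_ (m := y⁻¹ * (g * y * g⁻¹))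
      (mem_inf.2 ⟨mul_mem (inv_mem hy) (D.conj_mem hy g), ⟨⟨y, hy⟩, rfl⟩⟩) ?_
    · intro m hm
      obtain ⟨hmP, b, hb⟩ := mem_inf.1 hm
      refine mem_inf.2 ⟨D.conj_mem hmP g, ⟨⟨g * b * g⁻¹, D.conj_mem b.2 g⟩, ?_⟩⟩
      show ((((g * b * g⁻¹)⁻¹ * (g * (g * b * g⁻¹) * g⁻¹) : G)) : G ⧸ C) = QuotientGroup.mk' C _
      rw [map_mul, map_mul, ← hb]
      show _ = (g : G ⧸ C) * _ * ((g⁻¹ : G) : G ⧸ C)
      rw [show (g * b * g⁻¹)⁻¹ * (g * (g * b * g⁻¹) * g⁻¹) =
        g * ((b : G)⁻¹ * (g * b * g⁻¹)) * g⁻¹ by group]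
      rfl
    · intro hfix
      obtain ⟨-, hdg⟩ := mem_fix.1 hfix
      set d := y⁻¹ * (g * y * g⁻¹) with hdd
      have hpow : ∀ k : ℕ, g ^ k * y * (g ^ k)⁻¹ = y * d ^ k := by
        intro k
        induction k with
        | zero => simp
        | succ k ih =>
          calc g ^ (k + 1) * y * (g ^ (k + 1))⁻¹ = g * (g ^ k * y * (g ^ k)⁻¹) * g⁻¹ := by
                rw [pow_succ']; group
            _ = (g * y * g⁻¹) * (g * d ^ k * g⁻¹) := by rw [ih]; group
            _ = y * d * d ^ k := by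
                rw [(hdg.pow_right k).eq, mul_inv_cancel_right, hdd]; group
            _ = _ := by rw [pow_succ', mul_assoc]
      have h1 : d ^ q ^ r = 1 := by
        have := hpow (q ^ r)
        rw [← D.order, pow_orderOf_eq_one, one_mul, inv_one, mul_one, left_eq_mul] at this
        rwa [← D.order]
      have h2 := D.eq_one_of_pow (mul_mem (inv_mem hy) (D.conj_mem hy g)) h1
      rw [inv_mul_eq_one] at h2
      exact hyg (mul_inv_eq_iff_eq_mul.1 h2.symm)
  -- count
  have hrange : f.range = P.map (QuotientGroup.mk' C) := by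
    refine le_antisymm ?_ ?_
    · rintro _ ⟨y, rfl⟩
      exact mem_map_of_mem _ (mul_mem (inv_mem y.2) (D.conj_mem y.2 g))
    · rintro _ ⟨x, hx, rfl⟩
      exact (mem_inf.1 (hWP.symm ▸ hx : x ∈ W)).2
  have hker1 : (Fix P g).subgroupOf P ≤ f.ker := by
    intro y hy
    rw [mem_subgroupOf] at hy
    rw [MonoidHom.mem_ker]
    show (((y : G)⁻¹ * (g * y * g⁻¹) : G) : G ⧸ C) = 1
    rw [(mem_fix.1 hy).2.eq, mul_inv_cancel_right, inv_mul_cancel, QuotientGroup.mk_one]
  have hker2 : C.subgroupOf P ≤ f.ker := by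
    intro y hy
    rw [mem_subgroupOf] at hy
    rw [MonoidHom.mem_ker]
    show (((y : G)⁻¹ * (g * y * g⁻¹) : G) : G ⧸ C) = 1
    rw [(mem_fix.1 (D.commutator_le_fix hy)).2.eq, mul_inv_cancel_right, inv_mul_cancel,
      QuotientGroup.mk_one]
  have hcard : Nat.card f.ker = Nat.card (C.subgroupOf P) := by
    have h1 := Subgroup.card_eq_card_quotient_mul_card_subgroup f.ker
    rw [Nat.card_congr (QuotientGroup.quotientKerEquivRange f).toEquiv, hrange] at h1
    let f' : P →* G ⧸ C := (QuotientGroup.mk' C).comp P.subtype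
    have h2 := Subgroup.card_eq_card_quotient_mul_card_subgroup f'.ker
    rw [Nat.card_congr (QuotientGroup.quotientKerEquivRange f').toEquiv,
      show f'.range = P.map (QuotientGroup.mk' C) by
        rw [MonoidHom.range_eq_map, ← Subgroup.map_map, ← MonoidHom.range_eq_map, range_subtype],
      show f'.ker = C.subgroupOf P by
        rw [← MonoidHom.comap_ker, QuotientGroup.ker_mk']; rfl] at h2
    exact Nat.eq_of_mul_eq_mul_left Nat.card_pos (h1.symm.trans h2)
  have heq := Subgroup.eq_of_le_of_card_ge hker2 hcard.le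
  intro x hx
  have := hker1 (show (⟨x, (mem_fix.1 hx).1⟩ : P) ∈ (Fix P g).subgroupOf P from mem_subgroupOf.2 hx)
  rw [← heq, mem_subgroupOf] at this
  exact this

end CfsgLib.SolvStruct.UniversalSchmidt
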