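import Cfsg.Agent.Lib.SolvStruct.UniversalSchmidt.Datum
import Cfsg.Agent.Lib.SolvStruct.UniversalSchmidt.Algebra

/-!
# The model: a Heisenberg group over `GF(p ^ a)` extended by a cyclic `q`-group
-/

set_option autoImplicit false
set_option linter.all false

namespace CfsgLib.SolvStruct.UniversalSchmidt

universe u

variable {K : Type u} [Field K]

/-- Pairs `(x, y)` with `y` modulo the fixed field of `σ`. -/
@[ext]
structure Heis (σ : K →+* K) (θ : K) : Type u where
  x : K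
  y : K ⧸ fixedAdd σ

variable {σ : K →+* K} {θ : K}

/-- The cocycle. -/
def Heis.cocycle (σ : K →+* K) (θ a b : K) : K ⧸ fixedAdd σ := ((θ * σ a * b : K) : K ⧸ fixedAdd σ)

theorem cocycle_add_left (a a' b : K) :
    Heis.cocycle σ θ (a + a') b = Heis.cocycle σ θ a b + Heis.cocycle σ θ a' b := by
  simp only [Heis.cocycle, map_add, ← QuotientAddGroup.mk_add]
  congr 1; ring

theorem cocycle_add_right (a b b' : K) :
    Heis.cocycle σ θ a (b + b') = Heis.cocycle σ θ a b + Heis.cocycle σ θ a b' := by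
  simp only [Heis.cocycle, ← QuotientAddGroup.mk_add]
  congr 1; ring

theorem cocycle_zero_left (b : K) : Heis.cocycle σ θ 0 b = 0 := by simp [Heis.cocycle]

theorem cocycle_zero_right (a : K) : Heis.cocycle σ θ a 0 = 0 := by simp [Heis.cocycle]

theorem cocycle_neg_left (a b : K) : Heis.cocycle σ θ (-a) b = -Heis.cocycle σ θ a b := by
  rw [eq_neg_iff_add_eq_zero, ← cocycle_add_left, neg_add_cancel, cocycle_zero_left]

instance : Mul (Heis σ θ) where mul a b := ⟨a.x + b.x, a.y + b.y + Heis.cocycle σ θ a.x b.x⟩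
instance : One (Heis σ θ) where one := ⟨0, 0⟩
instance : Inv (Heis σ θ) where inv a := ⟨-a.x, -a.y + Heis.cocycle σ θ a.x a.x⟩

@[simp] theorem Heis.mul_x (a b : Heis σ θ) : (a * b).x = a.x + b.x := rfl
@[simp] theorem Heis.mul_y (a b : Heis σ θ) :
    (a * b).y = a.y + b.y + Heis.cocycle σ θ a.x b.x := rfl
@[simp] theorem Heis.one_x : (1 : Heis σ θ).x = 0 := rfl
@[simp] theorem Heis.one_y : (1 : Heis σ θ).y = 0 := rfl
@[simp] theorem Heis.inv_x (a : Heis σ θ) : a⁻¹.x = -a.x := rfl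
@[simp] theorem Heis.inv_y (a : Heis σ θ) : a⁻¹.y = -a.y + Heis.cocycle σ θ a.x a.x := rfl

instance : Group (Heis σ θ) where
  mul_assoc a b c := by
    ext
    · simp [add_assoc]
    · simp only [Heis.mul_y, Heis.mul_x, cocycle_add_left, cocycle_add_right]; abel
  one_mul a := by ext <;> simp [cocycle_zero_left]
  mul_one a := by ext <;> simp [cocycle_zero_right]
  inv_mul_cancel a := by
    ext
    · simp
    · simp only [Heis.mul_y, Heis.inv_x, Heis.inv_y, cocycle_neg_left, Heis.one_y]; abel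

/-- As a product. -/
def Heis.equivProd (σ : K →+* K) (θ : K) : Heis σ θ ≃ K × (K ⧸ fixedAdd σ) where
  toFun a := (a.x, a.y)
  invFun a := ⟨a.1, a.2⟩
  left_inv _ := rfl
  right_inv _ := rfl

/-- Scaling by an element of norm one. -/
def Heis.scale (c : K) (hc : c ≠ 0) (hn : ∀ s : K, ((σ c * c * s : K) : K ⧸ fixedAdd σ) = (s : K ⧸ fixedAdd σ)) : MulAut (Heis σ θ) where
  toFun a := ⟨c * a.x, a.y⟩
  invFun a := ⟨c⁻¹ * a.x, a.y⟩
  left_inv a := by ext <;> simp [← mul_assoc, inv_mul_cancel₀ hc]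
  right_inv a := by ext <;> simp [← mul_assoc, mul_inv_cancel₀ hc]
  map_mul' a b := by
    ext
    · simp [mul_add]
    · simp only [Heis.mul_y, Heis.cocycle, map_mul]
      congr 1
      rw [← hn (θ * σ a.x * b.x)]
      congr 1
      ring

theorem Heis.scale_pow_apply (c : K) (hc : c ≠ 0) (hn : ∀ s : K, ((σ c * c * s : K) : K ⧸ fixedAdd σ) = (s : K ⧸ fixedAdd σ)) (k : ℕ) (a : Heis σ θ) :
    ((Heis.scale c hc hn : MulAut (Heis σ θ)) ^ k) a = ⟨c ^ k * a.x, a.y⟩ := by
  induction k with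
  | zero => simp
  | succ k ih =>
    rw [pow_succ', MulAut.mul_apply, ih]
    show (⟨c * (c ^ k * a.x), a.y⟩ : Heis σ θ) = _
    rw [pow_succ', mul_assoc]

theorem Heis.commutator_eq (hθ : ∀ s : K, ((θ * s - θ * σ s : K) : K ⧸ fixedAdd σ) = (s : K ⧸ fixedAdd σ))
    (hσ : ∀ s, σ (σ s) = s) (a b : Heis σ θ) :
    a * b * a⁻¹ * b⁻¹ = ⟨0, ((σ a.x * b.x : K) : K ⧸ fixedAdd σ)⟩ := by
  have e : a * b = (⟨0, ((σ a.x * b.x : K) : K ⧸ fixedAdd σ)⟩ : Heis σ θ) * (b * a) := by
    ext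
    · simp [add_comm]
    · simp only [Heis.mul_y, cocycle_zero_left, add_zero, Heis.cocycle]
      rw [← hθ (σ a.x * b.x), map_mul, hσ]
      have h : ((θ * σ a.x * b.x : K) : K ⧸ fixedAdd σ) =
          ((θ * (σ a.x * b.x) - θ * (a.x * σ b.x) : K) : K ⧸ fixedAdd σ) +
            ((θ * σ b.x * a.x : K) : K ⧸ fixedAdd σ) := by
        rw [← QuotientAddGroup.mk_add]; congr 1; ring
      rw [h]
      simp only [map_zero, mul_zero, zero_mul, QuotientAddGroup.mk_zero, add_zero]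
      abel
  rw [e]; group

/-- The cyclic group acting. -/
abbrev Cyc (n : ℕ) : Type u := ULift.{u} (Multiplicative (ZMod n))

/-- The action of `Cyc n` by powers of an automorphism killed by `n`. -/
noncomputable def cycAct {H : Type u} [Group H] (n : ℕ) (A : MulAut H) (hA : A ^ n = 1) :
    Cyc.{u} n →* MulAut H :=
  (MonoidHom.toAdditiveRight.symm (ZMod.lift n ⟨zmultiplesHom _ (Additive.ofMul A), by
    show ((n : ℤ) • Additive.ofMul A) = 0
    rw [natCast_zsmul, ← ofMul_pow, hA]; rfl⟩)).comp MulEquiv.ulift.toMonoidHom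

theorem cycAct_apply {H : Type u} [Group H] (n : ℕ) (A : MulAut H) (hA : A ^ n = 1) (i : ℕ) :
    cycAct n A hA ((ULift.up (Multiplicative.ofAdd (1 : ZMod n)) : Cyc.{u} n) ^ i) = A ^ i := by
  rw [map_pow]
  congr 1
  have : (1 : ZMod n) = ((1 : ℤ) : ZMod n) := by simp
  simp only [cycAct, MonoidHom.comp_apply, MulEquiv.coe_toMonoidHom]
  show Additive.toMul (((ZMod.lift n) ⟨(zmultiplesHom (Additive (MulAut H))) (Additive.ofMul A), _⟩)
    (1 : ZMod n)) = A
  rw [this, ZMod.lift_coe]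
  simp

variable {p q r : ℕ} [hp : Fact p.Prime] [hq : Fact q.Prime] [Fintype K]

/-- The model has a datum. -/
theorem exists_model (hpq : p ≠ q) (hr : 1 ≤ r) (hchar : (p : K) = 0) {ζ : K} (hpow : ζ ^ q = 1)
    (hne : ζ ≠ 1) (hgen : Subring.closure ({ζ} : Set K) = ⊤)
    (hσ : ∀ s, σ (σ s) = s)
    (hn : ∀ s : K, ((σ ζ * ζ * s : K) : K ⧸ fixedAdd σ) = (s : K ⧸ fixedAdd σ))
    (hθ : ∀ s : K, ((θ * s - θ * σ s : K) : K ⧸ fixedAdd σ) = (s : K ⧸ fixedAdd σ)) :
    ∃ (G₀ : Type u) (_ : Group G₀) (_ : Finite G₀) (P : Subgroup G₀) (g : G₀),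
      Datum p q r P g ∧ Nat.card P = Nat.card K * Nat.card (K ⧸ fixedAdd σ) := by
  classical
  have hζ0 : ζ ≠ 0 := fun e => by rw [e, zero_pow hq.out.ne_zero] at hpow; exact zero_ne_one hpow
  let A : MulAut (Heis σ θ) := Heis.scale ζ hζ0 hn
  have hA : A ^ q ^ r = 1 := by
    refine MulEquiv.ext fun a => ?_
    rw [Heis.scale_pow_apply]
    obtain ⟨k, rfl⟩ := Nat.exists_eq_add_of_le hr
    rw [pow_add, pow_one, pow_mul, hpow, one_pow, one_mul]
    rfl
  set n := q ^ r with hndef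
  haveI : NeZero n := ⟨pow_ne_zero _ hq.out.ne_zero⟩
  haveI : Finite (Heis σ θ) := Finite.of_equiv _ (Heis.equivProd σ θ).symm
  let G₀ := Heis σ θ ⋊[cycAct n A hA] Cyc.{u} n
  haveI : Finite G₀ := Finite.of_equiv _ SemidirectProduct.equivProd.symm
  set c : Cyc.{u} n := ULift.up (Multiplicative.ofAdd (1 : ZMod n)) with hc
  have hcgen : ∀ z : Cyc.{u} n, ∃ i : ℕ, c ^ i = z := fun z =>
    ⟨(Multiplicative.toAdd z.down).val, ULift.down_injective (by
      show Multiplicative.ofAdd ((Multiplicative.toAdd z.down).val • (1 : ZMod n)) = z.down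
      rw [nsmul_one, ZMod.natCast_zmod_val]; rfl)⟩
  have hco : orderOf c = n := by
    rw [← MulEquiv.orderOf_eq MulEquiv.ulift c]
    show orderOf (Multiplicative.ofAdd (1 : ZMod n)) = n
    rw [orderOf_ofAdd_eq_addOrderOf, ZMod.addOrderOf_one]
  set P : Subgroup G₀ := (SemidirectProduct.inl : Heis σ θ →* G₀).range with hP
  set g : G₀ := SemidirectProduct.inr c with hg
  have hconj : ∀ (i : ℕ) (a : Heis σ θ), g ^ i * SemidirectProduct.inl a * (g ^ i)⁻¹ =
      SemidirectProduct.inl ((A ^ i) a) := by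
    intro i a
    rw [hg, ← map_pow, ← map_inv, ← SemidirectProduct.inl_aut, cycAct_apply]
  have hfix : ∀ a : Heis σ θ, a.x = 0 → Commute g (SemidirectProduct.inl a : G₀) := by
    intro a ha
    have h1 := hconj 1 a
    rw [pow_one, pow_one] at h1
    have e : (A : MulAut (Heis σ θ)) a = a := by
      show (⟨ζ * a.x, a.y⟩ : Heis σ θ) = a
      ext <;> simp [ha]
    rw [e] at h1
    exact mul_inv_eq_iff_eq_mul.1 h1
  have hPcard : Nat.card P = Nat.card K * Nat.card (K ⧸ fixedAdd σ) := by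
    rw [hP, ← Nat.card_congr (MonoidHom.ofInjective SemidirectProduct.inl_injective).toEquiv,
      Nat.card_congr (Heis.equivProd σ θ), Nat.card_prod]
  refine ⟨G₀, inferInstance, inferInstance, P, g, ⟨?_, ?_, hpq, ?_, ?_, ?_, ?_, ?_⟩, hPcard⟩
  · haveI : CharP K p := (CharP.charP_iff_prime_eq_zero hp.out).2 hchar
    obtain ⟨m, -, hm⟩ := FiniteField.card K p
    have h2 : Nat.card P ∣ p ^ ((m : ℕ) + m) := by
      rw [hPcard, pow_add, Nat.card_eq_fintype_card, hm]
      refine mul_dvd_mul_left _ ?_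
      rw [← hm, ← Nat.card_eq_fintype_card]
      exact AddSubgroup.index_dvd_card _
    obtain ⟨j, -, hj⟩ := (Nat.dvd_prime_pow hp.out).1 h2
    exact IsPGroup.of_card hj
  · rw [hP, SemidirectProduct.range_inl_eq_ker_rightHom]
    exact MonoidHom.normal_ker _
  · rw [hg, orderOf_injective _ SemidirectProduct.inr_injective, hco]
  · intro z
    obtain ⟨i, hi⟩ := hcgen z.right
    refine ⟨SemidirectProduct.inl z.left, ⟨z.left, rfl⟩, i, ?_⟩
    rw [hg, ← map_pow, hi, SemidirectProduct.inl_left_mul_inr_right]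
  · rintro _ ⟨a, rfl⟩
    have h1 := hconj q a
    have e : (A ^ q) a = a := by
      rw [Heis.scale_pow_apply, hpow, one_mul]
    rw [e] at h1
    exact mul_inv_eq_iff_eq_mul.1 h1
  · refine ⟨_, ⟨⟨1, 0⟩, rfl⟩, fun h => ?_⟩
    have h1 := hconj 1 (⟨1, 0⟩ : Heis σ θ)
    rw [pow_one, pow_one, h.eq, mul_inv_cancel_right] at h1
    have h2 := congrArg Heis.x (SemidirectProduct.inl_injective h1)
    exact hne (by
      have h3 : (1 : K) = ζ * 1 := h2
      rw [mul_one] at h3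
      exact h3.symm)
  · intro M hMP hinv hMne m hm
    obtain ⟨a, rfl⟩ := hMP hm
    by_cases ha : ∀ b : Heis σ θ, (SemidirectProduct.inl b : G₀) ∈ M → b.x = 0
    · exact hfix a (ha a hm)
    exfalso
    refine hMne (le_antisymm hMP ?_)
    set M' : Subgroup (Heis σ θ) := M.comap SemidirectProduct.inl with hM'
    have hMinv : ∀ b ∈ M', A b ∈ M' := fun b hb => by
      have h1 := hconj 1 b
      rw [pow_one, pow_one] at h1
      show (SemidirectProduct.inl (A b) : G₀) ∈ M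
      rw [← h1]
      exact hinv _ hb
    push Not at ha
    obtain ⟨b₀, hb₀, hb₀x⟩ := ha
    let X' : AddSubgroup K :=
      { carrier := {x | ∃ b ∈ M', b.x = x}
        zero_mem' := ⟨1, one_mem _, rfl⟩
        add_mem' := by rintro x x' ⟨b, hb, rfl⟩ ⟨b', hb', rfl⟩; exact ⟨b * b', mul_mem hb hb', rfl⟩
        neg_mem' := by rintro x ⟨b, hb, rfl⟩; exact ⟨b⁻¹, inv_mem hb, rfl⟩ }
    have hXinv : ∀ x ∈ X', ζ * x ∈ X' := by
      rintro x ⟨b, hb, rfl⟩
      exact ⟨A b, hMinv b hb, rfl⟩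
    have hXtop : ∀ x : K, ∃ b ∈ M', b.x = x := by
      intro x
      have := mul_mem_of_gen hgen hXinv (x / b₀.x) (a := b₀.x) ⟨b₀, hb₀, rfl⟩
      rwa [div_mul_cancel₀ x hb₀x] at this
    have hY : ∀ y : K ⧸ fixedAdd σ, (⟨0, y⟩ : Heis σ θ) ∈ M' := by
      intro y
      obtain ⟨s, rfl⟩ := QuotientAddGroup.mk_surjective y
      obtain ⟨b1, hb1, e1⟩ := hXtop 1
      obtain ⟨b2, hb2, e2⟩ := hXtop s
      have := mul_mem (mul_mem (mul_mem hb1 hb2) (inv_mem hb1)) (inv_mem hb2)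
      rwa [Heis.commutator_eq hθ hσ, e1, e2, map_one, one_mul] at this
    rintro _ ⟨b, rfl⟩
    obtain ⟨b', hb', e⟩ := hXtop b.x
    have hb : b ∈ M' := by
      have e2 : b = (⟨0, b.y - b'.y⟩ : Heis σ θ) * b' := by
        ext
        · simp [e]
        · simp [cocycle_zero_left]
      rw [e2]
      exact mul_mem (hY _) hb'
    exact hb

end CfsgLib.SolvStruct.UniversalSchmidt
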