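import Cfsg.Agent.Lib.SolvStruct.UniversalSchmidt.Datum
import Cfsg.Agent.Lib.Core.Coprime
import Cfsg.Agent.Lib.TwoGroups.KleinSylow
import Cfsg.Agent.S0132

/-!
# Data and minimal non-`p`-nilpotent groups
-/

set_option autoImplicit false
set_option linter.all false

namespace CfsgLib.SolvStruct.UniversalSchmidt

open Subgroup

variable {G : Type*} [Group G] [Finite G] {p q r : ℕ} [hp : Fact p.Prime] [hq : Fact q.Prime]

/-- A central `p'`-subgroup absorbing a `p`-power of every element is a normal complement. -/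
theorem hasNormalPComplement_of_central (K : Subgroup G) {c : G} (hcK : c ∈ K)
    (hc : (orderOf c).Coprime p) (hcen : ∀ k ∈ K, Commute c k) (N : ℕ)
    (h : ∀ k ∈ K, k ^ p ^ N ∈ zpowers c) : Cfsg.HasNormalPComplement p K := by
  set C : Subgroup K := zpowers (⟨c, hcK⟩ : K) with hC
  haveI : C.Normal := ⟨fun n hn k => by
    obtain ⟨i, rfl⟩ := mem_zpowers_iff.1 hn
    have e : Commute (k : K) ((⟨c, hcK⟩ : K) ^ i) :=
      (show Commute (k : K) (⟨c, hcK⟩ : K) from Subtype.ext (hcen k k.2).symm.eq).zpow_right i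
    rw [e.eq, mul_inv_cancel_right]
    exact zpow_mem (mem_zpowers _) i⟩
  refine CfsgLib.Transfer.hasNormalPComplement_iff_exists.2 ⟨C, inferInstance, ?_, fun x => ⟨N, ?_⟩⟩
  · rw [hC, Nat.card_zpowers, Subgroup.orderOf_mk]; exact hc
  · obtain ⟨k, rfl⟩ := QuotientGroup.mk_surjective x
    rw [← QuotientGroup.mk_pow, QuotientGroup.eq_one_iff]
    obtain ⟨i, hi⟩ := mem_zpowers_iff.1 (h k k.2)
    exact mem_zpowers_iff.2 ⟨i, Subtype.ext (by simpa using hi)⟩

variable {P : Subgroup G} {g : G} (D : Datum p q r P g)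
include D

theorem Datum.coprime_pow (k : ℕ) : (q ^ k).Coprime p :=
  ((Nat.coprime_primes hq.out hp.out).2 D.prime_ne.symm).pow_left k

theorem Datum.zpowers_le_normalizer : zpowers g ≤ normalizer (P : Set G) := fun x _ => by
  haveI := D.normal
  rw [normalizer_eq_top]
  exact mem_top x

theorem Datum.card_group : Nat.card G = Nat.card P * q ^ r := by
  have h : zpowers g ⊔ P = ⊤ := eq_top_iff.2 fun x _ => by
    obtain ⟨π, hπ, i, rfl⟩ := D.gen x
    exact mul_mem (mem_sup_right hπ) (mem_sup_left (pow_mem (mem_zpowers g) i))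
  obtain ⟨n, hn⟩ := IsPGroup.iff_card.1 D.pgroup
  have := CfsgLib.Core.card_sup_of_coprime (zpowers g) P D.zpowers_le_normalizer
    (by rw [Nat.card_zpowers, D.order, hn]; exact (D.coprime_pow r).pow_right n)
  rw [h, Subgroup.card_top, Nat.card_zpowers, D.order] at this
  rw [this, mul_comm]

theorem Datum.pow_q_central : g ^ q ∈ center G := by
  refine mem_center_iff.2 fun x => ?_
  obtain ⟨π, hπ, i, rfl⟩ := D.gen x
  exact ((D.pow π hπ).symm.mul_left ((Commute.refl g).pow_pow i q)).eq

theorem Datum.not_complement : ¬ Cfsg.HasNormalPComplement p G := by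
  intro h
  obtain ⟨x, hx, hxg⟩ := D.moved
  have h1 := CfsgLib.Transfer.mem_centralizer_of_hasNormalPComplement h D.pgroup
    (D.zpowers_le_normalizer (mem_zpowers g)) (by rw [D.order]; exact D.coprime_pow r)
  exact hxg (mem_centralizer_iff.1 h1 x hx).symm

theorem Datum.proper_complement (K : Subgroup G) (hK : K ≠ ⊤) :
    Cfsg.HasNormalPComplement p K := by
  classical
  obtain ⟨n, hn⟩ := IsPGroup.iff_card.1 D.pgroup
  by_cases hall : ∀ k ∈ K, ∃ π ∈ P, ∃ i : ℕ, k = π * (g ^ q) ^ i
  · -- inside `P` times the centre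
    have hcyc : ∀ x ∈ P, x ^ p ^ n = 1 := fun x hx => by
      rw [← hn]
      exact congrArg Subtype.val (pow_card_eq_one' (x := (⟨x, hx⟩ : P)))
    have hpw : ∀ k ∈ K, k ^ p ^ n ∈ zpowers (g ^ q) := by
      intro k hk
      obtain ⟨π, hπ, i, rfl⟩ := hall k hk
      rw [((D.pow π hπ).symm.pow_right i).mul_pow, hcyc π hπ, one_mul]
      exact pow_mem (pow_mem (mem_zpowers _) i) _
    haveI : IsCyclic (zpowers (g ^ q) ⊓ K : Subgroup G) :=
      isCyclic_of_injective (Subgroup.inclusion inf_le_left) (Subgroup.inclusion_injective _)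
    obtain ⟨⟨c, hc⟩, hgen⟩ := IsCyclic.exists_generator (α := (zpowers (g ^ q) ⊓ K : Subgroup G))
    refine hasNormalPComplement_of_central K (mem_inf.1 hc).2 ?_ (fun k hk => ?_) n fun k hk => ?_
    · refine (D.coprime_pow r).coprime_dvd_left ?_
      obtain ⟨i, hi⟩ := mem_zpowers_iff.1 (mem_inf.1 hc).1
      rw [← hi, ← D.order, orderOf_dvd_iff_pow_eq_one, ← zpow_natCast, ← zpow_mul, mul_comm,
        zpow_mul, zpow_natCast, ← pow_mul, mul_comm, pow_mul, pow_orderOf_eq_one, one_pow, one_zpow]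
    · obtain ⟨i, hi⟩ := mem_zpowers_iff.1 (mem_inf.1 hc).1
      rw [← hi]
      exact (show Commute (g ^ q) k from (mem_center_iff.1 D.pow_q_central k).symm).zpow_left i
    · obtain ⟨i, hi⟩ := mem_zpowers_iff.1 (hgen ⟨k ^ p ^ n, mem_inf.2 ⟨hpw k hk, pow_mem hk _⟩⟩)
      exact mem_zpowers_iff.2 ⟨i, by simpa using congrArg Subtype.val hi⟩
  · -- a conjugate contains `g`
    push Not at hall
    obtain ⟨k, hk, hkq⟩ := hall
    obtain ⟨π, hπ, i, rfl⟩ := D.gen k
    have hi : ¬ q ∣ i := by
      rintro ⟨j, rfl⟩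
      exact hkq π hπ j (by rw [← pow_mul])
    set t := (π * g ^ i) ^ p ^ n with ht
    have htK : t ∈ K := pow_mem hk _
    haveI := D.normal
    have hmk : (t : G ⧸ P) = ((g : G ⧸ P)) ^ (i * p ^ n) := by
      rw [ht, QuotientGroup.mk_pow, QuotientGroup.mk_mul, (QuotientGroup.eq_one_iff π).2 hπ,
        one_mul, QuotientGroup.mk_pow, ← pow_mul]
    have hordq : orderOf (g : G ⧸ P) = q ^ r := by
      refine Nat.dvd_antisymm (D.order ▸ orderOf_map_dvd (QuotientGroup.mk' P) g) ?_
      set o := orderOf (g : G ⧸ P)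
      have hgo : g ^ o ∈ P := by
        rw [← QuotientGroup.eq_one_iff, QuotientGroup.mk_pow, pow_orderOf_eq_one]
      have h1 : g ^ o = 1 := D.eq_one_of_pow hgo (by
        rw [← pow_mul, mul_comm, pow_mul, ← D.order, pow_orderOf_eq_one, one_pow])
      rw [← D.order]
      exact orderOf_dvd_of_pow_eq_one h1
    have hcop : (q ^ r).Coprime (i * p ^ n) :=
      Nat.Coprime.mul_right ((hq.out.coprime_iff_not_dvd.2 hi).pow_left r)
        ((D.coprime_pow r).pow_right n)
    have hto : orderOf t = q ^ r := by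
      refine Nat.dvd_antisymm (orderOf_dvd_of_pow_eq_one ?_) ?_
      · rw [ht, ← pow_mul, ← hn, ← D.card_group, pow_card_eq_one']
      · have h2 : orderOf (t : G ⧸ P) = q ^ r := by
          rw [hmk, ← hordq]
          exact Nat.Coprime.orderOf_pow (by rw [hordq]; exact hcop)
        rw [← h2]
        exact orderOf_map_dvd (QuotientGroup.mk' P) t
    -- Sylow
    have hfact : (Nat.card G).factorization q = r := by
      rw [D.card_group, hn, Nat.factorization_mul (pow_ne_zero _ hp.out.ne_zero) (pow_ne_zero _ hq.out.ne_zero),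
        Finsupp.add_apply, Nat.Prime.factorization_pow hp.out, Nat.Prime.factorization_pow hq.out,
        Finsupp.single_eq_of_ne D.prime_ne.symm, Finsupp.single_eq_same, zero_add]
    obtain ⟨h, hh⟩ := MulAction.exists_smul_eq G
      (Sylow.ofCard (zpowers t) (by rw [Nat.card_zpowers, hto, hfact]) : Sylow q G)
      (Sylow.ofCard (zpowers g) (by rw [Nat.card_zpowers, D.order, hfact]) : Sylow q G)
    set K' := K.map (MulAut.conj h).toMonoidHom with hK'
    have hgK : g ∈ K' := by
      have hle : (zpowers t).map (MulAut.conj h).toMonoidHom = zpowers g := by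
        have := congrArg (fun S : Sylow q G => (S : Subgroup G)) hh
        simp only [Sylow.coe_subgroup_smul, Sylow.coe_ofCard] at this
        exact this
      exact Subgroup.map_mono ((zpowers_le (H := K)).2 htK) (hle ▸ mem_zpowers g)
    have hK't : K' ≠ ⊤ := by
      intro e
      refine hK (Subgroup.map_injective (f := (MulAut.conj h).toMonoidHom) (MulAut.conj h).injective ?_)
      rw [← hK', e, Subgroup.map_top_of_surjective _ (MulAut.conj h).surjective]
    have hcomm : ∀ x ∈ K', x ∈ P → Commute g x := by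
      intro x hxK hxP
      refine D.minimal (K' ⊓ P) inf_le_right (fun m hm => ?_) ?_ x (mem_inf.2 ⟨hxK, hxP⟩)
      · exact mem_inf.2 ⟨mul_mem (mul_mem hgK (mem_inf.1 hm).1) (inv_mem hgK),
          D.conj_mem (mem_inf.1 hm).2 g⟩
      · intro e
        refine hK't (eq_top_iff.2 fun y _ => ?_)
        obtain ⟨π', hπ', j, rfl⟩ := D.gen y
        exact mul_mem (mem_inf.1 (e.symm ▸ hπ' : π' ∈ K' ⊓ P)).1 (pow_mem hgK j)
    have hparts : ∀ y ∈ K', ∃ π' ∈ P, ∃ j : ℕ, y = π' * g ^ j ∧ Commute g π' := by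
      intro y hy
      obtain ⟨π', hπ', j, rfl⟩ := D.gen y
      have : π' ∈ K' := by
        have := mul_mem hy (inv_mem (pow_mem hgK j))
        rwa [mul_inv_cancel_right] at this
      exact ⟨π', hπ', j, rfl, hcomm π' this hπ'⟩
    have hN : Cfsg.HasNormalPComplement p K' := by
      refine hasNormalPComplement_of_central K' hgK (by rw [D.order]; exact D.coprime_pow r)
        (fun y hy => ?_) n fun y hy => ?_
      · obtain ⟨π', hπ', j, rfl, hc⟩ := hparts y hy
        exact hc.mul_right ((Commute.refl g).pow_right j)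
      · obtain ⟨π', hπ', j, rfl, hc⟩ := hparts y hy
        rw [(hc.symm.pow_right j).mul_pow,
          show π' ^ p ^ n = 1 by
            rw [← hn]; exact congrArg Subtype.val (pow_card_eq_one' (x := (⟨π', hπ'⟩ : P))),
          one_mul]
        exact pow_mem (pow_mem (mem_zpowers g) j) _
    exact CfsgLib.Transfer.hasNormalPComplement_of_injective
      (K.equivMapOfInjective (MulAut.conj h).toMonoidHom (MulAut.conj h).injective).toMonoidHom
      (MulEquiv.injective _) hN

omit D in
/-- A minimal non-`p`-nilpotent group of order `p ^ t * q ^ r` has a datum. -/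
theorem exists_datum {X : Type*} [Group X] [Finite X] (hpq : p ≠ q)
    (h1 : ¬ Cfsg.HasNormalPComplement p X)
    (h2 : ∀ K : Subgroup X, K ≠ ⊤ → Cfsg.HasNormalPComplement p K) {t : ℕ}
    (hcard : Nat.card X = p ^ t * q ^ r) :
    ∃ (P : Subgroup X) (g : X), Datum p q r P g := by
  obtain ⟨hnil, -, hnorm⟩ := Cfsg.Agent.S0132.result h1 h2
  obtain ⟨P⟩ : Nonempty (Sylow p X) := inferInstance
  haveI := hnorm P
  have hcop : (p ^ t).Coprime (q ^ r) := ((Nat.coprime_primes hp.out hq.out).2 hpq).pow t r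
  have hPc : Nat.card P = p ^ t := by
    rw [P.card_eq_multiplicity, hcard, Nat.factorization_mul (pow_ne_zero _ hp.out.ne_zero)
      (pow_ne_zero _ hq.out.ne_zero), Finsupp.add_apply, Nat.Prime.factorization_pow hp.out,
      Nat.Prime.factorization_pow hq.out, Finsupp.single_eq_of_ne hpq, Finsupp.single_eq_same,
      add_zero]
  obtain ⟨Q⟩ : Nonempty (Sylow q X) := inferInstance
  have hQc : Nat.card Q = q ^ r := by
    rw [Q.card_eq_multiplicity, hcard, Nat.factorization_mul (pow_ne_zero _ hp.out.ne_zero)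
      (pow_ne_zero _ hq.out.ne_zero), Finsupp.add_apply, Nat.Prime.factorization_pow hp.out,
      Nat.Prime.factorization_pow hq.out, Finsupp.single_eq_of_ne hpq.symm, Finsupp.single_eq_same,
      zero_add]
  have hn : ∀ A : Subgroup X, A ≤ normalizer ((P : Subgroup X) : Set X) := fun A x _ => by
    rw [normalizer_eq_top]; exact mem_top x
  have hsupcard : ∀ A : Subgroup X, A ≤ (Q : Subgroup X) →
      Nat.card (A ⊔ (P : Subgroup X) : Subgroup X) = Nat.card A * p ^ t := by
    intro A hA
    rw [CfsgLib.Core.card_sup_of_coprime A (P : Subgroup X) (hn A), hPc]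
    rw [hPc]
    exact (hQc ▸ hcop.symm).coprime_dvd_left (Subgroup.card_dvd_of_le hA)
  have hprop : ∀ A : Subgroup X, A ≤ (Q : Subgroup X) → A ⊔ (P : Subgroup X) ≠ ⊤ →
      ∀ a ∈ A, ∀ x ∈ (P : Subgroup X), Commute a x := by
    intro A hA hne a ha x hx
    refine CfsgLib.SolvStruct.commute_of_mem_nilpotent (hnil _ hne) (mem_sup_left ha)
      (mem_sup_right hx) ?_
    exact ((hcop.symm.coprime_dvd_left (hQc ▸ Subgroup.orderOf_dvd_natCard _ (hA ha))).coprime_dvd_right
      (hPc ▸ Subgroup.orderOf_dvd_natCard _ hx))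
  obtain ⟨g, hgQ, x, hx, hgx⟩ : ∃ g ∈ (Q : Subgroup X), ∃ x ∈ (P : Subgroup X), ¬ Commute g x := by
    by_contra hcon
    push Not at hcon
    refine h1 (CfsgLib.TwoGroups.hasNormalPComplement_of_normalizer_le P fun y _ => ?_)
    rw [mem_centralizer_iff]
    intro a ha
    have htop : (Q : Subgroup X) ⊔ (P : Subgroup X) = ⊤ :=
      Subgroup.eq_top_of_card_eq _ (by rw [hsupcard _ le_rfl, hQc, hcard, mul_comm])
    obtain ⟨b, hb, c, hc, rfl⟩ :=
      Subgroup.mem_sup_of_normal_right.1 (htop.symm ▸ mem_top y : y ∈ (Q : Subgroup X) ⊔ (P : Subgroup X))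
    by_cases hab : ∀ u ∈ (P : Subgroup X), ∀ v ∈ (P : Subgroup X), Commute u v
    · exact (((hcon b hb a ha).symm).mul_right (hab a ha c hc)).eq
    · exfalso
      -- `X` would be nilpotent
      haveI hQn : (Q : Subgroup X).Normal := by
        refine ⟨fun v hv y => ?_⟩
        obtain ⟨b', hb', c', hc', rfl⟩ :=
          Subgroup.mem_sup_of_normal_right.1 (htop.symm ▸ mem_top y : y ∈ (Q : Subgroup X) ⊔ (P : Subgroup X))
        rw [show b' * c' * v * (b' * c')⁻¹ = b' * (c' * v * c'⁻¹) * b'⁻¹ by group,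
          (hcon v hv c' hc').symm.eq, mul_inv_cancel_right]
        exact mul_mem (mul_mem hb' hv) (inv_mem hb')
      refine h1 (CfsgLib.Transfer.hasNormalPComplement_iff_exists.2 ⟨(Q : Subgroup X), hQn, ?_, ?_⟩)
      · rw [hQc]; exact ((Nat.coprime_primes hq.out hp.out).2 hpq.symm).pow_left r
      · intro z
        obtain ⟨y, rfl⟩ := QuotientGroup.mk_surjective z
        refine ⟨t, ?_⟩
        obtain ⟨b', hb', c', hc', rfl⟩ :=
          Subgroup.mem_sup_of_normal_right.1 (htop.symm ▸ mem_top y : y ∈ (Q : Subgroup X) ⊔ (P : Subgroup X))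
        rw [← QuotientGroup.mk_pow, QuotientGroup.eq_one_iff, (hcon b' hb' c' hc').mul_pow,
          show c' ^ p ^ t = 1 by
            rw [← hPc]; exact congrArg Subtype.val (pow_card_eq_one' (x := (⟨c', hc'⟩ : (P : Subgroup X)))),
          mul_one]
        exact pow_mem hb' _
  have hgle : zpowers g ≤ (Q : Subgroup X) := zpowers_le.2 hgQ
  have htop : zpowers g ⊔ (P : Subgroup X) = ⊤ := by
    by_contra hne
    exact hgx (hprop _ hgle hne g (mem_zpowers g) x hx)
  have hord : orderOf g = q ^ r := by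
    have := hsupcard _ hgle
    rw [htop, Subgroup.card_top, hcard, Nat.card_zpowers, mul_comm] at this
    exact (Nat.eq_of_mul_eq_mul_right (pow_pos hp.out.pos t) this).symm
  refine ⟨P, g, P.2, inferInstance, hpq, hord, fun y => ?_, ?_, ⟨x, hx, hgx⟩, ?_⟩
  · obtain ⟨c, hc, b, hb, rfl⟩ := Subgroup.mem_sup_of_normal_left.1
      (show y ∈ (P : Subgroup X) ⊔ zpowers g by rw [sup_comm, htop]; exact mem_top y)
    rw [← mem_powers_iff_mem_zpowers] at hb
    obtain ⟨i, rfl⟩ := hb
    exact ⟨c, hc, i, rfl⟩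
  · intro y hy
    rcases Nat.eq_zero_or_pos r with rfl | hr
    · rw [pow_zero, orderOf_eq_one_iff] at hord
      rw [hord, one_pow]
      exact Commute.one_left y
    · refine hprop (zpowers (g ^ q)) (zpowers_le.2 (pow_mem hgQ q)) ?_ _ (mem_zpowers _) y hy
      intro e
      have := hsupcard _ (zpowers_le.2 (pow_mem hgQ q))
      rw [e, Subgroup.card_top, hcard, Nat.card_zpowers, mul_comm,
        orderOf_pow' g hq.out.ne_zero, hord,
        Nat.gcd_eq_right (dvd_pow_self q hr.ne')] at this
      have h3 := Nat.eq_of_mul_eq_mul_right (pow_pos hp.out.pos t) this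
      exact absurd h3.symm (Nat.div_lt_self (pow_pos hq.out.pos r) hq.out.one_lt).ne
  · intro M hM hinv hne m hm
    have hnM : zpowers g ≤ normalizer (M : Set X) := by
      rw [zpowers_le, Subgroup.mem_normalizer_iff_map_conj_eq]
      refine eq_of_le_of_card_ge ?_ (card_map_of_injective (MulAut.conj g).injective).ge
      rintro _ ⟨y, hy, rfl⟩
      exact hinv y hy
    have hcoM : (Nat.card (zpowers g)).Coprime (Nat.card M) := by
      rw [Nat.card_zpowers, hord]
      exact hcop.symm.coprime_dvd_right (hPc ▸ Subgroup.card_dvd_of_le hM)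
    refine CfsgLib.SolvStruct.commute_of_mem_nilpotent (hnil (zpowers g ⊔ M) ?_)
      (mem_sup_left (mem_zpowers g)) (mem_sup_right hm) ?_
    · intro e
      have hcs := CfsgLib.Core.card_sup_of_coprime _ M hnM hcoM
      rw [e, Subgroup.card_top, hcard, Nat.card_zpowers, hord, mul_comm] at hcs
      exact hne (eq_of_le_of_card_ge hM
        (by rw [hPc, Nat.eq_of_mul_eq_mul_left (pow_pos hq.out.pos r) hcs]))
    · exact hcoM.coprime_dvd_left (by rw [Nat.card_zpowers]) |>.coprime_dvd_right
        (Subgroup.orderOf_dvd_natCard _ hm)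

end CfsgLib.SolvStruct.UniversalSchmidt
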