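import Cfsg.Agent.Lib.SolvStruct.UniversalSchmidt.Bound
import Cfsg.Agent.Lib.SolvStruct.UniversalSchmidt.Model
import Cfsg.Agent.Lib.SolvStruct.UniversalSchmidt.Schmidt

/-!
# Universality of the model

A minimal invariant subgroup of the pairs with corresponding coordinates gives a common cover of
two data with the same orders; the bound on its order shows that it is the larger one.
-/

set_option autoImplicit false
set_option linter.all false

namespace CfsgLib.SolvStruct.UniversalSchmidt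

open Subgroup

universe u

variable {p q r : ℕ} [hp : Fact p.Prime] [hq : Fact q.Prime]

theorem exists_model_of_orders (hpq : p ≠ q) (hr : 1 ≤ r) :
    ∃ (G₀ : Type u) (_ : Group G₀) (_ : Finite G₀) (P : Subgroup G₀) (g : G₀),
      Datum p q r P g ∧ p ^ (if orderOf (p : ZMod q) % 2 = 1 then orderOf (p : ZMod q)
        else 3 * orderOf (p : ZMod q) / 2) ≤ Nat.card P := by
  classical
  set a := orderOf (p : ZMod q) with ha
  have hapos : 0 < a := orderOf_pos_zmod hpq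
  haveI : Fintype (ULift.{u} (GaloisField p a)) := Fintype.ofFinite _
  set K := ULift.{u} (GaloisField p a)
  have hK : Fintype.card K = p ^ a := by
    rw [← Nat.card_eq_fintype_card, Nat.card_congr Equiv.ulift, GaloisField.card p a hapos.ne']
  have hchar : (p : K) = 0 := ULift.down_injective (by
    show (p : GaloisField p a) = 0
    exact CharP.cast_eq_zero _ p)
  have hpa : (p : ZMod q) ^ a = 1 := pow_orderOf_eq_one _
  have hqdvd : q ∣ Nat.card Kˣ := by
    rw [Nat.card_units, Nat.card_eq_fintype_card, hK,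
      ← Nat.modEq_iff_dvd' (Nat.one_le_pow _ _ hp.out.pos), ← ZMod.natCast_eq_natCast_iff]
    push_cast
    exact hpa.symm
  obtain ⟨z, hz⟩ := exists_prime_orderOf_dvd_card' q hqdvd
  set ζ : K := (z : K)
  have hpow : ζ ^ q = 1 := by
    rw [← Units.val_pow_eq_pow_val, ← hz, pow_orderOf_eq_one, Units.val_one]
  have hne : ζ ≠ 1 := fun e => hq.out.ne_one (by
    rw [← hz, orderOf_eq_one_iff]; exact Units.ext e)
  have hgen := gen_of_card (p := p) hchar hpow hne hK
  have hKc : Nat.card K = p ^ a := by rw [Nat.card_eq_fintype_card, hK]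
  by_cases hodd : a % 2 = 1
  · have hY : ∀ x y : K ⧸ fixedAdd (RingHom.id K), x = y := by
      intro x y
      obtain ⟨x, rfl⟩ := QuotientAddGroup.mk_surjective x
      obtain ⟨y, rfl⟩ := QuotientAddGroup.mk_surjective y
      exact QuotientAddGroup.eq.2 (mem_fixedAdd.2 rfl)
    obtain ⟨G₀, _, _, P, g, D, hP⟩ := exists_model (r := r) (σ := RingHom.id K) (θ := 0) hpq hr
      hchar hpow hne hgen (fun s => rfl) (fun s => hY _ _) (fun s => hY _ _)
    refine ⟨G₀, _, inferInstance, P, g, D, ?_⟩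
    rw [if_pos hodd, hP, hKc]
    exact Nat.le_mul_of_pos_right _ Nat.card_pos
  · haveI : CharP K p := (CharP.charP_iff_prime_eq_zero hp.out).2 hchar
    set c := a / 2 with hc
    have hac : a = c + c := by omega
    set σ : K →+* K := iterateFrobenius K p c with hσdef
    have hσσ : ∀ s, σ (σ s) = s := by
      intro s
      rw [hσdef, iterateFrobenius_def, iterateFrobenius_def, ← pow_mul, ← pow_add, ← hac, ← hK]
      exact FiniteField.pow_card s
    have hpc : (p : ZMod q) ^ c = -1 := by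
      refine (mul_self_eq_one_iff.1 (by rw [← pow_add, ← hac]; exact hpa)).resolve_left fun e => ?_
      have := Nat.le_of_dvd (by omega) (orderOf_dvd_of_pow_eq_one e)
      omega
    have hσζ : σ ζ * ζ = 1 := by
      rw [hσdef, iterateFrobenius_def, ← pow_succ]
      have h : q ∣ p ^ c + 1 := by
        rw [← ZMod.natCast_eq_zero_iff]
        push_cast
        rw [hpc]; ring
      obtain ⟨m, hm⟩ := h
      rw [hm, pow_mul, hpow, one_pow]
    have hq2 : q ≠ 2 := by
      intro e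
      have h1 : orderOf (p : ZMod q) ∣ q - 1 := orderOf_dvd_of_pow_eq_one
        (ZMod.pow_card_sub_one_eq_one (by
          rw [Ne, ZMod.natCast_eq_zero_iff, Nat.prime_dvd_prime_iff_eq hq.out hp.out]
          exact Ne.symm hpq))
      have := Nat.le_of_dvd (by omega) h1
      omega
    have hσne : ∃ s, σ s ≠ s := by
      refine ⟨ζ, fun e => ?_⟩
      rw [e] at hσζ
      have h1 : orderOf ζ ∣ 2 := orderOf_dvd_of_pow_eq_one (by rw [pow_two]; exact hσζ)
      rw [orderOf_root hpow hne] at h1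
      exact hq2 ((Nat.prime_dvd_prime_iff_eq hq.out Nat.prime_two).1 h1)
    obtain ⟨t, ht⟩ : ∃ t, t + σ t ≠ 0 := by
      by_contra hcon
      push Not at hcon
      have h2 := hcon 1
      rw [map_one] at h2
      obtain ⟨s, hs⟩ := hσne
      exact hs (by linear_combination hcon s - s * h2)
    set θ := t / (t + σ t) with hθdef
    have hθ1 : σ θ = 1 - θ := by
      rw [hθdef, map_div₀, map_add, hσσ, add_comm (σ t) t, eq_sub_iff_add_eq, ← add_div,
        add_comm (σ t) t, div_self ht]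
    obtain ⟨G₀, _, _, P, g, D, hP⟩ := exists_model (r := r) (σ := σ) (θ := θ) hpq hr
      hchar hpow hne hgen hσσ (fun s => by rw [hσζ, one_mul]) (fun s => by
        rw [QuotientAddGroup.eq, mem_fixedAdd]
        simp only [map_add, map_sub, map_mul, map_neg, hσσ, hθ1]
        ring)
    refine ⟨G₀, _, inferInstance, P, g, D, ?_⟩
    rw [if_neg hodd, hP, hKc]
    obtain ⟨d, k, hd, hF, hKd⟩ := exists_card_fixed hchar σ
    have hadk : a = d * k := Nat.pow_right_injective hp.out.two_le (by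
      show p ^ a = p ^ (d * k)
      rw [pow_mul, ← hKd, hKc])
    have hk2 : 2 ≤ k := by
      by_contra hk
      obtain ⟨s, hs⟩ := hσne
      have hk1 : k = 1 := by
        rcases Nat.eq_zero_or_pos k with rfl | hk0
        · omega
        · omega
      rw [hk1, pow_one, ← hF] at hKd
      have htop : fixedAdd σ = ⊤ := AddSubgroup.eq_top_of_card_eq _ hKd.symm
      exact hs (mem_fixedAdd.1 (htop ▸ AddSubgroup.mem_top s))
    have hdc : d ≤ c := by
      have : d * 2 ≤ d * k := Nat.mul_le_mul_left d hk2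
      omega
    have hcard := AddSubgroup.card_eq_card_quotient_mul_card_addSubgroup (fixedAdd σ)
    rw [hF, hKc] at hcard
    rw [show 3 * a / 2 = a + c by omega, pow_add]
    refine Nat.mul_le_mul_left _ (Nat.le_of_mul_le_mul_right ?_ (pow_pos hp.out.pos d))
    rw [← hcard, ← pow_add]
    exact Nat.pow_le_pow_right hp.out.pos (by omega)

variable {G : Type u} [Group G] [Finite G] {P : Subgroup G} {g : G}

theorem Datum.pow_coprime (D : Datum p q r P g) (hr : 1 ≤ r) {m : ℕ} (hm : ¬ q ∣ m) :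
    Datum p q r P (g ^ m) ∧ Fix P (g ^ m) = Fix P g := by
  have hcop : (orderOf g).Coprime m := by
    rw [D.order]; exact (hq.out.coprime_iff_not_dvd.2 hm).pow_left r
  obtain ⟨j, hj⟩ : ∃ j : ℕ, (g ^ m) ^ j = g := by
    obtain ⟨j, hj⟩ := exists_pow_eq_self_of_coprime hcop.symm
    exact ⟨j, hj⟩
  have hcomm : ∀ x : G, Commute (g ^ m) x ↔ Commute g x := fun x =>
    ⟨fun h => hj ▸ h.pow_left j, fun h => h.pow_left m⟩
  have hfix : Fix P (g ^ m) = Fix P g := Subgroup.ext fun x => by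
    rw [mem_fix, mem_fix, hcomm]
  refine ⟨⟨D.pgroup, D.normal, D.prime_ne, ?_, fun x => ?_, fun x hx => ?_, ?_, fun M hM hinv hne y hy => ?_⟩, hfix⟩
  · rw [Nat.Coprime.orderOf_pow hcop, D.order]
  · obtain ⟨π, hπ, i, rfl⟩ := D.gen x
    exact ⟨π, hπ, j * i, by rw [pow_mul, hj]⟩
  · rw [← pow_mul, mul_comm, pow_mul]
    exact (D.pow x hx).pow_left m
  · obtain ⟨x, hx, hxg⟩ := D.moved
    exact ⟨x, hx, fun h => hxg ((hcomm x).1 h)⟩
  · refine (hcomm y).2 (D.minimal M hM (fun z hz => ?_) hne y hy)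
    have : ∀ k : ℕ, (g ^ m) ^ k * z * ((g ^ m) ^ k)⁻¹ ∈ M := by
      intro k
      induction k with
      | zero => simpa using hz
      | succ k ih =>
        rw [show (g ^ m) ^ (k + 1) * z * ((g ^ m) ^ (k + 1))⁻¹ =
          g ^ m * ((g ^ m) ^ k * z * ((g ^ m) ^ k)⁻¹) * (g ^ m)⁻¹ by rw [pow_succ']; group]
        exact hinv _ ih
    simpa [hj] using this j

variable {X : Type u} [Group X] [Finite X] {PX : Subgroup X} {gX : X}

/-- The model covers every datum. -/
theorem exists_cover (D₀ : Datum p q r P g) (DX : Datum p q r PX gX) (hr : 1 ≤ r)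
    (hbig : p ^ (if orderOf (p : ZMod q) % 2 = 1 then orderOf (p : ZMod q)
      else 3 * orderOf (p : ZMod q) / 2) ≤ Nat.card P) :
    ∃ φ : G →* X, Function.Surjective φ ∧ φ.ker ≤ center G := by
  classical
  obtain ⟨K, _, _, ζ, π₀, C₀⟩ := D₀.exists_coord
  obtain ⟨L, _, _, η, πX, CX⟩ := DX.exists_coord
  have hKL : Fintype.card K = Fintype.card L := by
    rw [card_of_gen C₀.char C₀.pow C₀.ne_one C₀.gen D₀.prime_ne,
      card_of_gen CX.char CX.pow CX.ne_one CX.gen D₀.prime_ne]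
  let f : K ≃+* L := FiniteField.ringEquivOfCardEq hKL
  have hη : IsPrimitiveRoot η q := by
    rw [← orderOf_root CX.pow CX.ne_one]; exact IsPrimitiveRoot.orderOf η
  obtain ⟨m, hmq, hm⟩ := hη.eq_pow_of_pow_eq_one (ξ := f ζ) (by rw [← map_pow, C₀.pow, map_one])
  have hm0 : ¬ q ∣ m := by
    intro h
    obtain ⟨k, rfl⟩ := h
    rw [pow_mul, CX.pow, one_pow] at hm
    exact C₀.ne_one (f.injective (hm.symm.trans (map_one f).symm))
  obtain ⟨DX', hfixX⟩ := DX.pow_coprime hr hm0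
  set hX := gX ^ m with hhX
  have hconjX : ∀ x : PX, πX ⟨hX * x * hX⁻¹, DX.conj_mem x.2 hX⟩ = f ζ * πX x := by
    have key : ∀ (k : ℕ) (x : PX), πX ⟨gX ^ k * x * (gX ^ k)⁻¹, DX.conj_mem x.2 _⟩ = η ^ k * πX x := by
      intro k
      induction k with
      | zero => intro x; simp
      | succ k ih =>
        intro x
        rw [pow_succ' η, mul_assoc η, ← ih x, ← CX.conj]
        congr 1
        exact Subtype.ext (by
          show gX ^ (k + 1) * (x : X) * (gX ^ (k + 1))⁻¹ = gX * (gX ^ k * x * (gX ^ k)⁻¹) * gX⁻¹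
          rw [pow_succ']; group)
    intro x
    rw [key, hm]
  -- the pairs with corresponding coordinates
  have hπ1 : π₀ 1 = 0 := (C₀.zero_iff 1).2 (by simpa using one_mem (Fix P g))
  have hπX1 : πX 1 = 0 := (CX.zero_iff 1).2 (by simpa using one_mem (Fix PX gX))
  let S : Subgroup (G × X) :=
    { carrier := {z | ∃ (h₁ : z.1 ∈ P) (h₂ : z.2 ∈ PX), f (π₀ ⟨z.1, h₁⟩) = πX ⟨z.2, h₂⟩}
      one_mem' := ⟨one_mem P, one_mem PX, by
        show f (π₀ 1) = πX 1
        rw [hπ1, hπX1, map_zero]⟩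
      mul_mem' := by
        rintro z w ⟨h1, h2, e⟩ ⟨h1', h2', e'⟩
        refine ⟨mul_mem h1 h1', mul_mem h2 h2', ?_⟩
        show f (π₀ (⟨z.1, h1⟩ * ⟨w.1, h1'⟩)) = πX (⟨z.2, h2⟩ * ⟨w.2, h2'⟩)
        rw [C₀.add, CX.add, map_add, e, e']
      inv_mem' := by
        rintro z ⟨h1, h2, e⟩
        refine ⟨inv_mem h1, inv_mem h2, ?_⟩
        show f (π₀ (⟨z.1, h1⟩⁻¹)) = πX (⟨z.2, h2⟩⁻¹)
        have a1 := C₀.add (⟨z.1, h1⟩⁻¹) ⟨z.1, h1⟩
        have a2 := CX.add (⟨z.2, h2⟩⁻¹) ⟨z.2, h2⟩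
        rw [inv_mul_cancel, hπ1] at a1
        rw [inv_mul_cancel, hπX1] at a2
        rw [eq_neg_of_add_eq_zero_left a1.symm, eq_neg_of_add_eq_zero_left a2.symm, map_neg, e] }
  set g₁ : G × X := (g, hX) with hg₁
  let Good : Subgroup (G × X) → Prop := fun W =>
    W ≤ S ∧ (∀ w ∈ W, g₁ * w * g₁⁻¹ ∈ W) ∧ ∃ w ∈ W, w.1 ∉ Fix P g
  have hS : Good S := by
    refine ⟨le_rfl, ?_, ?_⟩
    · rintro w ⟨h1, h2, e⟩
      refine ⟨D₀.conj_mem h1 g, DX.conj_mem h2 hX, ?_⟩
      show f (π₀ ⟨g * w.1 * g⁻¹, D₀.conj_mem h1 g⟩) = πX ⟨hX * w.2 * hX⁻¹, DX.conj_mem h2 hX⟩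
      rw [C₀.conj ⟨w.1, h1⟩, hconjX ⟨w.2, h2⟩, map_mul, e]
    · obtain ⟨x, hx, hxg⟩ := D₀.moved
      obtain ⟨y, hy⟩ := CX.surj (f (π₀ ⟨x, hx⟩))
      exact ⟨(x, y.1), ⟨hx, y.2, hy.symm⟩, fun h => hxg (mem_fix.1 h).2⟩
  haveI : Finite (Subgroup (G × X)) :=
    Finite.of_injective (fun W => (W : Set (G × X))) SetLike.coe_injective
  obtain ⟨W, ⟨hWS, hWinv, w₀, hw₀, hw₀F⟩, hWmin⟩ :=
    (Set.toFinite {W | Good W}).exists_minimal ⟨S, hS⟩
  have hcoord : ∀ w ∈ S, (w.1 ∈ Fix P g ↔ w.2 ∈ Fix PX gX) := by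
    rintro w ⟨h1, h2, e⟩
    rw [← C₀.zero_iff ⟨w.1, h1⟩, ← CX.zero_iff ⟨w.2, h2⟩, ← e, map_eq_zero_iff f f.injective]
  -- the subdirect group
  have hn : zpowers g₁ ≤ normalizer (W : Set (G × X)) := by
    rw [zpowers_le, Subgroup.mem_normalizer_iff_map_conj_eq]
    refine eq_of_le_of_card_ge ?_ (card_map_of_injective (MulAut.conj g₁).injective).ge
    rintro _ ⟨y, hy, rfl⟩
    exact hWinv y hy
  set G₁ := zpowers g₁ ⊔ W with hG₁
  have hg₁G : g₁ ∈ G₁ := mem_sup_left (mem_zpowers _)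
  have hWG : W ≤ G₁ := le_sup_right
  set W₁ := W.subgroupOf G₁ with hW₁
  have hWP : ∀ w ∈ W, w.1 ∈ P ∧ w.2 ∈ PX := fun w hw => by
    obtain ⟨h1, h2, -⟩ := hWS hw
    exact ⟨h1, h2⟩
  have ho : orderOf g₁ = q ^ r := by
    rw [hg₁, Prod.orderOf_mk, D₀.order, DX'.order, Nat.lcm_self]
  have hWp : IsPGroup p W := by
    intro w
    obtain ⟨h1, h2⟩ := hWP w w.2
    obtain ⟨k, hk⟩ := D₀.pgroup ⟨_, h1⟩
    obtain ⟨l, hl⟩ := DX.pgroup ⟨_, h2⟩
    refine ⟨k + l, Subtype.ext (Prod.ext ?_ ?_)⟩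
    · push_cast
      rw [Prod.pow_fst, pow_add, pow_mul, show (w : G × X).1 ^ p ^ k = 1 from congrArg Subtype.val hk, one_pow]
      rfl
    · push_cast
      rw [Prod.pow_snd, pow_add, mul_comm, pow_mul, show (w : G × X).2 ^ p ^ l = 1 from congrArg Subtype.val hl,
        one_pow]
      rfl
  have hgenG₁ : ∀ z ∈ G₁, ∃ w ∈ W, ∃ i : ℕ, z = w * g₁ ^ i := by
    intro z hz
    obtain ⟨b, hb, w, hw, rfl⟩ := (CfsgLib.Core.mem_sup_iff_mul hn).1 hz
    rw [← mem_powers_iff_mem_zpowers] at hb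
    obtain ⟨i, rfl⟩ := hb
    exact ⟨g₁ ^ i * w * (g₁ ^ i)⁻¹,
      (mem_normalizer_iff.1 (hn (pow_mem (mem_zpowers g₁) i)) w).1 hw, i, by
        show g₁ ^ i * w = g₁ ^ i * w * (g₁ ^ i)⁻¹ * g₁ ^ i
        rw [inv_mul_cancel_right]⟩
  have D₁ : Datum p q r W₁ (⟨g₁, hg₁G⟩ : G₁) := by
    refine ⟨?_, ?_, D₀.prime_ne, ?_, fun z => ?_, fun w hw => ?_, ?_, fun M hM hinv hne y hy => ?_⟩
    · exact hWp.of_equiv (subgroupOfEquivOfLe hWG).symm
    · exact (normal_subgroupOf_iff_le_normalizer hWG).2 (sup_le hn le_normalizer)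
    · rw [Subgroup.orderOf_mk, ho]
    · obtain ⟨w, hw, i, e⟩ := hgenG₁ z z.2
      exact ⟨⟨w, hWG hw⟩, mem_subgroupOf.2 hw, i, Subtype.ext (by simpa using e)⟩
    · obtain ⟨h1, h2⟩ := hWP _ (mem_subgroupOf.1 hw)
      exact Subtype.ext (Prod.ext (D₀.pow _ h1).eq (DX'.pow _ h2).eq)
    · refine ⟨⟨w₀, hWG hw₀⟩, mem_subgroupOf.2 hw₀, fun h => hw₀F ?_⟩
      exact mem_fix.2 ⟨(hWP _ hw₀).1, congrArg Prod.fst (congrArg Subtype.val h.eq)⟩
    · set M' := M.map G₁.subtype with hM'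
      have hM'W : M' ≤ W := by
        rintro _ ⟨z, hz, rfl⟩
        exact mem_subgroupOf.1 (hM hz)
      have hy' : (y : G × X) ∈ M' := mem_map_of_mem _ hy
      by_cases hgood : ∃ w ∈ M', w.1 ∉ Fix P g
      · exfalso
        have hG : Good M' := ⟨hM'W.trans hWS, by
          rintro _ ⟨z, hz, rfl⟩
          exact ⟨_, hinv z hz, rfl⟩, hgood⟩
        refine hne (le_antisymm hM fun z hz => ?_)
        obtain ⟨z', hz', e⟩ := hWmin hG hM'W (mem_subgroupOf.1 hz)
        obtain rfl : z' = z := Subtype.ext e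
        exact hz'
      · push Not at hgood
        have h1 := hgood _ hy'
        have h2 := (hcoord _ (hWS (hM'W hy'))).1 h1
        rw [← hfixX] at h2
        exact Subtype.ext (Prod.ext (mem_fix.1 h1).2.eq (mem_fix.1 h2).2.eq)
  -- projection to the first factor
  let pr₁ : G₁ →* G := (MonoidHom.fst G X).comp G₁.subtype
  let pr₂ : G₁ →* X := (MonoidHom.snd G X).comp G₁.subtype
  have hW1 : W.map (MonoidHom.fst G X) = P := by
    refine D₀.eq_of_invariant (by rintro _ ⟨w, hw, rfl⟩; exact (hWP w hw).1) ?_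
      (mem_map_of_mem _ hw₀) hw₀F
    rintro _ ⟨w, hw, rfl⟩
    exact ⟨_, hWinv w hw, rfl⟩
  have hW2 : W.map (MonoidHom.snd G X) = PX := by
    refine DX'.eq_of_invariant (by rintro _ ⟨w, hw, rfl⟩; exact (hWP w hw).2) ?_
      (mem_map_of_mem _ hw₀) ?_
    · rintro _ ⟨w, hw, rfl⟩
      exact ⟨_, hWinv w hw, rfl⟩
    · intro h
      rw [hfixX] at h
      exact hw₀F ((hcoord _ (hWS hw₀)).2 h)
  have hWinj : ∀ w ∈ W, w.1 = 1 → w = 1 := by
    let ψ : W → P := fun w => ⟨(w : G × X).1, (hWP w w.2).1⟩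
    have hsurj : Function.Surjective ψ := by
      rintro ⟨x, hx⟩
      obtain ⟨w, hw, e⟩ := hW1.symm ▸ hx
      exact ⟨⟨w, hw⟩, Subtype.ext e⟩
    have hle : Nat.card W ≤ Nat.card P := by
      have := D₁.card_le
      rw [Nat.card_congr (subgroupOfEquivOfLe hWG).toEquiv] at this
      exact this.trans hbig
    have hinj : Function.Injective ψ :=
      ((Nat.bijective_iff_surjective_and_card _).2
        ⟨hsurj, le_antisymm hle (Nat.card_le_card_of_surjective ψ hsurj)⟩).1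
    intro w hw e
    exact congrArg Subtype.val (hinj (a₁ := ⟨w, hw⟩) (a₂ := 1) (Subtype.ext e))
  have hb : Function.Bijective pr₁ := by
    refine ⟨(injective_iff_map_eq_one pr₁).2 fun z hz => ?_, fun x => ?_⟩
    · obtain ⟨w, hw, i, e⟩ := hgenG₁ z z.2
      have h1 : w.1 * g ^ i = 1 := by
        have := congrArg Prod.fst e
        rw [Prod.fst_mul, Prod.pow_fst] at this
        exact this.symm.trans hz
      have hgi : g ^ i ∈ P := by
        rw [← inv_eq_of_mul_eq_one_right h1]; exact inv_mem (hWP w hw).1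
      have h2 : g ^ i = 1 := D₀.eq_one_of_pow hgi (by
        rw [← pow_mul, mul_comm, pow_mul, ← D₀.order, pow_orderOf_eq_one, one_pow])
      have h3 : g₁ ^ i = 1 := by
        rw [← orderOf_dvd_iff_pow_eq_one, ho, ← D₀.order, orderOf_dvd_iff_pow_eq_one]
        exact h2
      rw [h2, mul_one] at h1
      apply Subtype.ext
      rw [e, h3, mul_one, hWinj w hw h1]
      rfl
    · obtain ⟨x', hx', i, rfl⟩ := D₀.gen x
      obtain ⟨w, hw, e⟩ := hW1.symm ▸ hx'
      refine ⟨⟨w, hWG hw⟩ * ⟨g₁, hg₁G⟩ ^ i, ?_⟩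
      simp only [map_mul, map_pow]
      show w.1 * g ^ i = x' * g ^ i
      rw [show w.1 = x' from e]
  let e₁ := MulEquiv.ofBijective pr₁ hb
  refine ⟨pr₂.comp e₁.symm.toMonoidHom, ?_, ?_⟩
  · intro y
    obtain ⟨y', hy', i, rfl⟩ := DX'.gen y
    obtain ⟨w, hw, e⟩ := hW2.symm ▸ hy'
    refine ⟨e₁ (⟨w, hWG hw⟩ * ⟨g₁, hg₁G⟩ ^ i), ?_⟩
    simp only [MonoidHom.comp_apply, MulEquiv.coe_toMonoidHom, MulEquiv.symm_apply_apply, map_mul,
      map_pow]
    show w.2 * hX ^ i = y' * hX ^ i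
    rw [show w.2 = y' from e]
  · intro x hx
    obtain ⟨z, rfl⟩ := e₁.surjective x
    rw [MonoidHom.mem_ker, MonoidHom.comp_apply, MulEquiv.coe_toMonoidHom,
      MulEquiv.symm_apply_apply] at hx
    obtain ⟨w, hw, i, e⟩ := hgenG₁ z z.2
    have h1 : w.2 * hX ^ i = 1 := by
      have := congrArg Prod.snd e
      rw [Prod.snd_mul, Prod.pow_snd] at this
      exact this.symm.trans hx
    have hgi : hX ^ i ∈ PX := by
      rw [← inv_eq_of_mul_eq_one_right h1]; exact inv_mem (hWP w hw).2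
    have h2 : hX ^ i = 1 := DX'.eq_one_of_pow hgi (by
      rw [← pow_mul, mul_comm, pow_mul, ← DX'.order, pow_orderOf_eq_one, one_pow])
    have h3 : g₁ ^ i = 1 := by
      rw [← orderOf_dvd_iff_pow_eq_one, ho, ← DX'.order, orderOf_dvd_iff_pow_eq_one]
      exact h2
    rw [h2, mul_one] at h1
    refine D₀.fix_central ?_
    show (z : G × X).1 ∈ Fix P g
    rw [e, h3, mul_one]
    exact (hcoord _ (hWS hw)).2 (h1 ▸ one_mem _)

/-- The universal minimal non-`p`-nilpotent group. -/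
theorem exists_universal (hpq : p ≠ q) (hr : 1 ≤ r) :
    ∃ (G₀ : Type u) (_ : Group G₀) (_ : Finite G₀),
      (¬ Cfsg.HasNormalPComplement p G₀ ∧
        ∀ K : Subgroup G₀, K ≠ ⊤ → Cfsg.HasNormalPComplement p K) ∧
      Nat.card G₀ = p ^ (if orderOf (p : ZMod q) % 2 = 1 then orderOf (p : ZMod q)
        else 3 * orderOf (p : ZMod q) / 2) * q ^ r ∧
      ∀ (X : Type u) [Group X] [Finite X],
        (¬ Cfsg.HasNormalPComplement p X ∧ ∀ K : Subgroup X, K ≠ ⊤ → Cfsg.HasNormalPComplement p K) →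
        (∃ t : ℕ, Nat.card X = p ^ t * q ^ r) →
        ∃ φ : G₀ →* X, Function.Surjective φ ∧ φ.ker ≤ center G₀ := by
  obtain ⟨G₀, _, _, P, g, D, hbig⟩ := exists_model_of_orders.{u} (p := p) (q := q) hpq hr
  refine ⟨G₀, _, inferInstance, ⟨D.not_complement, D.proper_complement⟩, ?_, ?_⟩
  · rw [D.card_group, le_antisymm D.card_le hbig]
  · intro X _ _ hX ht
    obtain ⟨t, ht⟩ := ht
    obtain ⟨PX, gX, DX⟩ := exists_datum hpq hX.1 hX.2 ht
    exact exists_cover D DX hr hbig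

end CfsgLib.SolvStruct.UniversalSchmidt
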